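import Cfsg.Agent.U3Sylow80.Cent
import Cfsg.Agent.LocalEven61.PSUBalanceBasic
import Cfsg.Agent.Lib.UnitaryOrthogonal.KleinPSU
import Cfsg.Agent.BGSigma.SmallRank

/-!
Groups whose Sylow 2-subgroups are those of `PSU₃(2ⁿ)`, `n ≥ 3`.
-/

set_option autoImplicit false
set_option linter.style.haveILetI false

namespace Cfsg.Agent.U3Sylow80

open Subgroup BenderCons37

universe u v

section
variable {G : Type u} [Group G] [Finite G]

/-- A conjugator of a Sylow subgroup normal in a normalised subgroup normalises it. -/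
theorem normalizes_sylow {S : Sylow 2 G} {g : G} {C : Subgroup G} (hSC : (S : Subgroup G) ≤ C)
    (hCN : C ≤ normalizer ((S : Subgroup G) : Set G)) (hg : ∀ x ∈ C, g * x * g⁻¹ ∈ C) :
    g ∈ normalizer ((S : Subgroup G) : Set G) := by
  haveI : Fact (Nat.Prime 2) := ⟨Nat.prime_two⟩
  refine Sylow.smul_eq_iff_mem_normalizer.1 (sylow_unique_of_le_normalizer S (g • S) ?_)
  rw [Sylow.coe_subgroup_smul]
  rintro _ ⟨r, hr, rfl⟩
  exact hCN (hg r (hSC hr))

/-- A map of a finite subgroup into itself by conjugation. -/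
theorem mem_normalizer_of_conj_le {H : Subgroup G} {g : G} (h : ∀ x ∈ H, g * x * g⁻¹ ∈ H) :
    g ∈ normalizer (H : Set G) := by
  refine Subgroup.mem_normalizer_iff.2 fun x => ⟨h x, fun hx => ?_⟩
  let f : H → H := fun y => ⟨g * y * g⁻¹, h y y.2⟩
  have hf : Function.Injective f := fun a b e => Subtype.ext (by
    simpa [f] using congrArg Subtype.val e)
  obtain ⟨y, hy⟩ := (Finite.injective_iff_surjective.1 hf) ⟨_, hx⟩
  have e : g * (y : G) * g⁻¹ = g * x * g⁻¹ := congrArg Subtype.val hy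
  simpa using (mul_left_cancel (mul_right_cancel e)) ▸ y.2

omit [Finite G] in
/-- An element moving `w` by a central factor normalises its centraliser. -/
theorem conj_mem_cent {g w a : G} (hg : g * w * g⁻¹ * w⁻¹ ∈ center G)
    (ha : a ∈ centralizer ({w} : Set G)) : g * a * g⁻¹ ∈ centralizer ({w} : Set G) := by
  obtain ⟨z, hz, hgw⟩ : ∃ z ∈ center G, g⁻¹ * w * g = z * w := by
    refine ⟨(g * w * g⁻¹ * w⁻¹)⁻¹, inv_mem hg, ?_⟩
    obtain ⟨z, hz, he⟩ : ∃ z ∈ center G, g * w * g⁻¹ * w⁻¹ = z := ⟨_, hg, rfl⟩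
    have h1 : g * w * g⁻¹ = z * w := by rw [← he]; group
    rw [he]
    calc g⁻¹ * w * g = g⁻¹ * (z⁻¹ * (z * w)) * g := by group
      _ = g⁻¹ * (z⁻¹ * (g * w * g⁻¹)) * g := by rw [h1]
      _ = (g⁻¹ * z⁻¹) * (g * w) := by group
      _ = (z⁻¹ * g⁻¹) * (g * w) := by rw [Subgroup.mem_center_iff.1 (inv_mem hz) g⁻¹]
      _ = z⁻¹ * w := by group
  rw [mem_centralizer_singleton_iff] at ha ⊢
  calc g * a * g⁻¹ * w = g * (a * (g⁻¹ * w * g)) * g⁻¹ := by group
    _ = g * (a * z * w) * g⁻¹ := by rw [hgw]; group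
    _ = g * (z * (a * w)) * g⁻¹ := by rw [Subgroup.mem_center_iff.1 hz a, mul_assoc z]
    _ = g * (z * w) * (a * g⁻¹) := by rw [ha]; group
    _ = w * (g * a * g⁻¹) := by rw [← hgw]; group

/-- The conclusion of the classification. -/
def Goal (G : Type u) [Group G] (S : Sylow 2 G) (F : Type v) [Field F] [Fintype F] (q : ℕ) : Prop :=
  (Group.IsSolvable G ∧ ((S : Subgroup G).map (QuotientGroup.mk' (Cfsg.oddCore G))).Normal) ∨
    ∃ N : Subgroup (G ⧸ Cfsg.oddCore G), N.Normal ∧ Odd N.index ∧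
      Nonempty (↥N ≃* Cfsg.PSU 3 F q)

variable {F : Type v} [Field F] [Fintype F] {q : ℕ}

/-- The induction hypothesis. -/
def Below (G : Type u) [Group G] (F : Type v) [Field F] [Fintype F] (q : ℕ) : Prop :=
  ∀ (H : Type u) [Group H] [Finite H] (T : Sylow 2 H), Nat.card H < Nat.card G →
    U3Syl (T : Subgroup H) q → Goal H T F q

/-- The centraliser of a central involution of `S` is solvable and has `S` normal modulo its odd
core. -/
theorem cent_central (hF : Fintype.card F = q ^ 2) (ih : Below G F q) {S : Sylow 2 G}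
    (hU : U3Syl (S : Subgroup G) q) {c : G} (hc : c ∈ zS (S : Subgroup G)) (hcZ : c ∉ center G) :
    ∃ h : (S : Subgroup G) ≤ centralizer ({c} : Set G),
      Group.IsSolvable ↥(centralizer ({c} : Set G)) ∧
      (((S : Subgroup G).subgroupOf (centralizer ({c} : Set G))).map
        (QuotientGroup.mk' (Cfsg.oddCore ↥(centralizer ({c} : Set G))))).Normal := by
  haveI : Fact (Nat.Prime 2) := ⟨Nat.prime_two⟩
  set C := centralizer ({c} : Set G) with hC
  have hSC : (S : Subgroup G) ≤ C := fun s hs =>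
    mem_centralizer_singleton_iff.2 ((mem_zS.1 hc).2 s hs)
  refine ⟨hSC, ?_⟩
  have hlt : Nat.card C < Nat.card G := by
    refine lt_of_le_of_ne (Nat.le_of_dvd Nat.card_pos (Subgroup.card_subgroup_dvd_card C)) fun e => ?_
    have htop : C = ⊤ := Subgroup.eq_top_of_card_eq C e
    exact hcZ (Subgroup.mem_center_iff.2 fun g =>
      mem_centralizer_singleton_iff.1 (show g ∈ C from htop ▸ Subgroup.mem_top g))
  have hU' : U3Syl (S.subtype hSC : Subgroup C) q := by
    rw [Sylow.coe_subtype]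
    exact hU.of_equiv (subgroupOfEquivOfLe hSC).symm
  rcases ih C (S.subtype hSC) hlt hU' with ⟨h1, h2⟩ | ⟨N, hN, hNo, ⟨e⟩⟩
  · exact ⟨h1, by rwa [Sylow.coe_subtype] at h2⟩
  exfalso
  haveI := hN
  set O := Cfsg.oddCore C
  let c' : C := ⟨c, mem_centralizer_singleton_iff.2 rfl⟩
  have hc2 : orderOf c' = 2 := by
    rw [← Subgroup.orderOf_coe]
    exact orderOf_eq_two (fun e1 => hcZ (by rw [show c = 1 from e1]; exact one_mem _)) (hU.sq_one hc)
  set cb : C ⧸ O := QuotientGroup.mk' O c' with hcb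
  have hcb2 : cb * cb = 1 := by rw [hcb, ← map_mul, mul_self_of_orderOf hc2, map_one]
  have hcN : cb ∈ N := by
    rw [← QuotientGroup.eq_one_iff, ← orderOf_eq_one_iff]
    have h1 : orderOf (cb : (C ⧸ O) ⧸ N) ∣ 2 := orderOf_dvd_of_pow_eq_one (by
      rw [pow_two, ← QuotientGroup.mk_mul, hcb2, QuotientGroup.mk_one])
    have h2 : orderOf (cb : (C ⧸ O) ⧸ N) ∣ N.index := orderOf_dvd_natCard _
    exact Nat.eq_one_of_dvd_coprimes (Nat.coprime_two_left.2 hNo) h1 h2
  have hcen : ∀ y : C ⧸ O, y * cb = cb * y := fun y => by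
    obtain ⟨y, rfl⟩ := QuotientGroup.mk'_surjective O y
    rw [hcb, ← map_mul, ← map_mul]
    exact congrArg _ (Subtype.ext (mem_centralizer_singleton_iff.1 y.2))
  have h1 : e ⟨cb, hcN⟩ ∈ center (Cfsg.PSU 3 F q) := by
    refine Subgroup.mem_center_iff.2 fun g => ?_
    obtain ⟨g, rfl⟩ := e.surjective g
    rw [← map_mul, ← map_mul]
    exact congrArg e (Subtype.ext (hcen g))
  rw [LocalEven61.PSUBalance.center_psu hF (le_refl 3), Subgroup.mem_bot,
    MulEquiv.map_eq_one_iff] at h1
  have h2 : c' ∈ O := (QuotientGroup.eq_one_iff c').1 (congrArg Subtype.val h1)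
  have h3 : orderOf c' ∣ Nat.card O := by
    rw [← Subgroup.orderOf_mk c' h2]; exact orderOf_dvd_natCard _
  rw [hc2] at h3
  exact Nat.not_even_iff_odd.2 BenderCons37.oddCore_card_odd (even_iff_two_dvd.2 h3)

end

variable {G : Type u} [Group G] [Finite G] {F : Type v} [Field F] [Fintype F] {n : ℕ}

set_option maxHeartbeats 1600000 in
/-- The case of a trivial odd core. -/
theorem core_case (hsp : BenderSplit.{u}) (hn : 3 ≤ n) (hF : Fintype.card F = (2 ^ n) ^ 2)
    (ih : Below G F (2 ^ n)) (hO : Cfsg.oddCore G = ⊥) (S : Sylow 2 G)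
    (hU : U3Syl (S : Subgroup G) (2 ^ n)) :
    (S : Subgroup G).Normal ∨
      ∃ N : Subgroup G, N.Normal ∧ Odd N.index ∧ Nonempty (↥N ≃* Cfsg.PSU 3 F (2 ^ n)) := by
  classical
  haveI : Fact (Nat.Prime 2) := ⟨Nat.prime_two⟩
  by_cases hSn : (S : Subgroup G).Normal
  · exact Or.inl hSn
  set q := 2 ^ n with hq
  have hq8 : 8 ≤ q := le_trans (by norm_num) (Nat.pow_le_pow_right (by norm_num : 0 < 2) hn)
  have hq0 : 0 < q := by omega
  set Z := zS (S : Subgroup G) with hZdef
  have hZc : Nat.card Z = q := hU.card_zS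
  -- the centre
  have hcenS : ∀ z ∈ center G, z ∈ Z := fun z hz =>
    mem_zS.2 ⟨mem_of_mem_center hO S hz, fun s _ => Subgroup.mem_center_iff.1 hz s⟩
  -- involutions
  have hlift : ∀ t : G, orderOf t = 2 → t ∉ center G →
      Group.IsSolvable ↥(centralizer ({t} : Set G)) := by
    intro t ht htc
    obtain ⟨W, hW⟩ := (IsPGroup.of_card (n := 1) (by rw [Nat.card_zpowers, ht, pow_one]) :
      IsPGroup 2 ↥(zpowers t)).exists_le_sylow
    have hUW := u3Syl_of_sylow hU W
    obtain ⟨-, h, -⟩ := cent_central hF ih hUW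
      (hUW.mem_zS_of_sq (hW (mem_zpowers t)) (mul_self_of_orderOf ht)) htc
    exact h
  set π := QuotientGroup.mk' (center G) with hπ
  have hπs : Function.Surjective π := QuotientGroup.mk'_surjective _
  have hπ1 : ∀ {a : G}, π a = 1 ↔ a ∈ center G := fun {a} => QuotientGroup.eq_one_iff a
  have hOX : Cfsg.oddCore (G ⧸ center G) = ⊥ := FTDown.pPrimeCore_quotient_center hO
  have hcentU : ∀ (W : Sylow 2 G) (w : G), w ∈ (W : Subgroup G) → w ∉ center G →
      w * w ∈ center G → Group.IsSolvable ↥(centralizer ({w} : Set G)) := by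
    intro W w hw hwc _
    by_cases h : w * w = 1
    · exact hlift w (orderOf_eq_two (fun e => hwc (e ▸ one_mem _)) h) hwc
    · exact solvable_cent_four hsp (u3Syl_of_sylow hU W) hq0 hlift hw h
  -- the preimage of the centraliser of an image
  let K : G → Subgroup G := fun w => (centralizer ({π w} : Set (G ⧸ center G))).comap π
  have hKmem : ∀ w g, g ∈ K w ↔ g * w * g⁻¹ * w⁻¹ ∈ center G := fun w g => by
    rw [← hπ1, mem_comap, mem_centralizer_singleton_iff, map_mul, map_mul, map_mul, map_inv,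
      map_inv, mul_inv_eq_one, mul_inv_eq_iff_eq_mul]
  have hCK : ∀ w, centralizer ({w} : Set G) ≤ K w := fun w g hg => by
    rw [hKmem, mem_centralizer_singleton_iff.1 hg, mul_inv_cancel_right, mul_inv_cancel]
    exact one_mem _
  have hsolX : ∀ t : G ⧸ center G, orderOf t = 2 →
      Group.IsSolvable ↥(centralizer ({t} : Set (G ⧸ center G))) := by
    intro t ht
    obtain ⟨R, hR⟩ := (IsPGroup.of_card (n := 1) (by rw [Nat.card_zpowers, ht, pow_one]) :
      IsPGroup 2 ↥(zpowers t)).exists_le_sylow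
    obtain ⟨W, hW⟩ := Sylow.mapSurjective_surjective hπs 2 R
    have h1 := hR (mem_zpowers t)
    rw [← hW] at h1
    obtain ⟨w, hw, rfl⟩ := h1
    have hwc : w ∉ center G := fun h => by rw [hπ1.2 h, orderOf_one] at ht; omega
    have hww : w * w ∈ center G := by rw [← hπ1, map_mul]; exact mul_self_of_orderOf ht
    haveI := solvable_of_cent (K := K w) (fun g hg => (hKmem w g).1 hg) (hCK w)
      (hcentU W w hw hwc hww)
    exact Group.isSolvable_of_surjective (f := π.subgroupComap (centralizer ({π w} : Set _)))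
      (MonoidHom.subgroupComap_surjective_of_surjective _ _ hπs)
  -- `S` is not commutative
  obtain ⟨x₀, hx₀, hx₀2⟩ : ∃ x ∈ (S : Subgroup G), x * x ≠ 1 := by
    by_contra! h
    have hle : (S : Subgroup G) ≤ Z := fun x hx => hU.mem_zS_of_sq hx (h x hx)
    have h2 := Nat.le_of_dvd Nat.card_pos (Subgroup.card_dvd_of_le hle)
    rw [hZc, hU.card_eq] at h2
    have h3 : q * 8 ≤ q ^ 3 := by
      calc q * 8 ≤ q * q := Nat.mul_le_mul_left q hq8
        _ ≤ q * q * q := Nat.le_mul_of_pos_right _ hq0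
        _ = q ^ 3 := by ring
    omega
  set SX : Sylow 2 (G ⧸ center G) := S.mapSurjective (f := π) hπs with hSX
  have hSXc : (SX : Subgroup (G ⧸ center G)) = (S : Subgroup G).map π := rfl
  -- all cores in the quotient are trivial
  have hcores : ∀ t : G ⧸ center G, orderOf t = 2 →
      Cfsg.oddCore ↥(centralizer ({t} : Set (G ⧸ center G))) = ⊥ := by
    set T := (S : Subgroup G) ⊓ centralizer ({x₀} : Set G) with hT
    have hTab := hU.inf_cent_abelian hx₀ hx₀2
    haveI : IsMulCommutative T := hTab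
    have hZT : Z ≤ T := U3Syl.zS_le_inf hx₀
    have hTn : ∀ s ∈ (S : Subgroup G), ∀ t ∈ T, s * t * s⁻¹ ∈ T := fun s hs t ht => by
      have := T.mul_mem (hZT (hU.comm_mem_zS hs ht.1)) ht
      rwa [inv_mul_cancel_right] at this
    intro t ht
    refine BC85.Balance.solvable_centralizers (fun _ _ _ _ h => BenderCons37.s1221_of hsp h) hOX SX
      (T.map π) (map_mono inf_le_left) ?_ inferInstance ?_ hsolX t ht
    · refine ⟨fun a ha g => ?_⟩
      obtain ⟨b, hb, hb'⟩ := ha
      obtain ⟨s, hs, hs'⟩ := (g.2 : (g : G ⧸ center G) ∈ (S : Subgroup G).map π)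
      refine ⟨s * b * s⁻¹, hTn s hs b hb, ?_⟩
      rw [map_mul, map_mul, map_inv, hs']
      exact congrArg (fun y => (g : G ⧸ center G) * y * (g : G ⧸ center G)⁻¹) hb'
    · intro hr
      have hcom : ∀ a ∈ T, ∀ b ∈ T, a * b = b * a := fun a ha b hb =>
        Thompson.elemAb_comm hTab ha hb
      let W : Subgroup G :=
        { carrier := {y | y ∈ T ∧ y * y ∈ center G}
          one_mem' := ⟨one_mem _, by rw [mul_one]; exact one_mem _⟩
          mul_mem' := fun {a b} ha hb => ⟨mul_mem ha.1 hb.1, by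
            rw [show a * b * (a * b) = a * (b * a) * b by group, hcom b hb.1 a ha.1,
              show a * (a * b) * b = a * a * (b * b) by group]
            exact mul_mem ha.2 hb.2⟩
          inv_mem' := fun {a} ha => ⟨inv_mem ha.1, by rw [← mul_inv_rev]; exact inv_mem ha.2⟩ }
      let g : W →* center G := MonoidHom.mk' (fun y => ⟨_, y.2.2⟩) fun a b => Subtype.ext (by
        show (a * b : G) * (a * b : G) = (a * a : G) * (b * b : G)
        rw [show (a * b : G) * (a * b) = a * ((b : G) * a) * b by group, hcom b b.2.1 a a.2.1]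
        group)
      have hg : Function.Surjective g := fun z => by
        obtain ⟨a, ha, haa⟩ := hU.exists_sqrt hx₀ hx₀2 (hcenS z z.2)
        exact ⟨⟨a, ha, by rw [haa]; exact z.2⟩, Subtype.ext haa⟩
      have hgk : Nat.card g.ker = q := by
        rw [← hZc, ← card_map_of_injective (K := g.ker) W.subtype_injective]
        refine Nat.card_congr (MulEquiv.subgroupCongr ?_).toEquiv
        ext y
        constructor
        · rintro ⟨y, hy, rfl⟩
          exact hU.mem_zS_of_sq y.2.1.1 (congrArg Subtype.val (MonoidHom.mem_ker.1 hy))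
        · intro hy
          exact ⟨⟨y, hZT hy, by rw [hU.sq_one hy]; exact one_mem _⟩,
            MonoidHom.mem_ker.2 (Subtype.ext (hU.sq_one hy)), rfl⟩
      have hWc : Nat.card W = q * Nat.card (center G) := by
        have h1 := g.ker.card_mul_index
        rw [index_ker, MonoidHom.range_eq_top.2 hg, card_top, hgk] at h1
        exact h1.symm
      let p : W →* (G ⧸ center G) := π.comp W.subtype
      have hpk : Nat.card p.ker = Nat.card (center G) := by
        rw [← card_map_of_injective (K := p.ker) W.subtype_injective]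
        refine Nat.card_congr (MulEquiv.subgroupCongr ?_).toEquiv
        ext y
        constructor
        · rintro ⟨y, hy, rfl⟩; exact hπ1.1 hy
        · intro hy
          exact ⟨⟨y, hZT (hcenS y hy), mul_mem hy hy⟩, MonoidHom.mem_ker.2 (hπ1.2 hy), rfl⟩
      have hrc : Nat.card p.range = q := by
        have h1 := p.ker.card_mul_index
        rw [index_ker, hpk, hWc, mul_comm q] at h1
        exact Nat.eq_of_mul_eq_mul_left Nat.card_pos h1
      have hple : p.range ≤ T.map π := by rintro _ ⟨y, rfl⟩; exact ⟨y, y.2.1, rfl⟩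
      have h8 := hr (p.range.subgroupOf (T.map π)) inferInstance fun a ha => by
        obtain ⟨y, hy⟩ := ha
        refine Subtype.ext ?_
        rw [SubgroupClass.coe_pow, pow_two, ← (show p y = (a : G ⧸ center G) from hy)]
        show π y * π y = 1
        rw [← map_mul, hπ1]
        exact y.2.2
      rw [Nat.card_congr (subgroupOfEquivOfLe hple).toEquiv, hrc] at h8
      omega
  have hOcent : ∀ w : G, w ∉ center G → w * w ∈ center G →
      Cfsg.oddCore ↥(centralizer ({w} : Set G)) = ⊥ := by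
    intro w hwc hww
    have ht : orderOf (π w) = 2 :=
      orderOf_eq_two (fun h => hwc (hπ1.1 h)) (by rw [← map_mul, hπ1]; exact hww)
    let r : K w →* ↥(centralizer ({π w} : Set (G ⧸ center G))) := π.subgroupComap _
    have h1 : (Cfsg.oddCore (K w)).map r ≤ ⊥ := hcores _ ht ▸
      Thompson.map_pPrimeCore_le_of_surjective r
        (MonoidHom.subgroupComap_surjective_of_surjective _ _ hπs)
    set C' := (centralizer ({w} : Set G)).subgroupOf (K w) with hC'
    haveI : C'.Normal := ⟨fun a ha g => conj_mem_cent ((hKmem w g).1 g.2) ha⟩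
    have h2 : Cfsg.oddCore C' = ⊥ := by
      rw [eq_bot_iff]
      intro a ha
      have hm : (a : K w) ∈ Cfsg.oddCore (K w) :=
        Thompson.map_pPrimeCore_normal_le C' ⟨a, ha, rfl⟩
      have hz : ((a : K w) : G) ∈ center G :=
        hπ1.1 (congrArg Subtype.val (Subgroup.mem_bot.1 (h1 ⟨_, hm, rfl⟩)))
      obtain ⟨k, hk⟩ := IsPGroup.iff_orderOf.1 (FTDown.isPGroup_center hO) ⟨_, hz⟩
      rw [Subgroup.orderOf_mk, Subgroup.orderOf_coe, Subgroup.orderOf_coe] at hk
      rw [Subgroup.mem_bot, ← orderOf_eq_one_iff]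
      refine Nat.eq_one_of_dvd_coprimes (b := 2 ^ k) ((Nat.coprime_two_left.2
        (BenderCons37.oddCore_card_odd (G := C'))).pow_left k).symm ?_ (hk ▸ dvd_rfl)
      rw [← Subgroup.orderOf_mk a ha]
      exact orderOf_dvd_natCard _
    rw [eq_bot_iff]
    intro a ha
    have hm : (subgroupOfEquivOfLe (hCK w)).symm a ∈ Cfsg.oddCore C' := by
      show _ ∈ Cfsg.pPrimeCore 2 ↥C'
      rw [← Thompson.map_pPrimeCore_equiv (subgroupOfEquivOfLe (hCK w)).symm]
      exact ⟨a, ha, rfl⟩
    rw [h2, Subgroup.mem_bot, MulEquiv.map_eq_one_iff] at hm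
    exact Subgroup.mem_bot.2 hm
  -- the centralisers of the images of involutions normalise `S`
  have hKN : ∀ w ∈ (S : Subgroup G), w ∉ center G → w * w ∈ center G →
      K w ≤ normalizer ((S : Subgroup G) : Set G) := by
    intro w hw hwc hww g hg
    by_cases hZ0 : Z ≤ center G
    · -- the quotient has an abelian Sylow subgroup
      set t := π w
      have ht : orderOf t = 2 :=
        orderOf_eq_two (fun h => hwc (hπ1.1 h)) (by rw [← map_mul, hπ1]; exact hww)
      have hle : (SX : Subgroup (G ⧸ center G)) ≤ centralizer ({t} : Set _) := by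
        rintro _ ⟨s, hs, rfl⟩
        exact (hKmem w s).2 (hZ0 (hU.comm_mem_zS hs hw))
      have hab : IsMulCommutative (SX : Subgroup (G ⧸ center G)) := ⟨⟨fun a b => Subtype.ext (by
        obtain ⟨a', ha, ha'⟩ := (a.2 : (a : G ⧸ center G) ∈ (S : Subgroup G).map π)
        obtain ⟨b', hb, hb'⟩ := (b.2 : (b : G ⧸ center G) ∈ (S : Subgroup G).map π)
        show (a : G ⧸ center G) * b = b * a
        have h := hπ1.2 (hZ0 (hU.comm_mem_zS ha hb))
        rw [map_mul, map_mul, map_mul, map_inv, map_inv, ha', hb', mul_inv_eq_one,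
          mul_inv_eq_iff_eq_mul] at h
        exact h)⟩⟩
      have hn' := normal_of_solvable_abelian (SX.subtype hle)
        (by rw [Sylow.coe_subtype]; infer_instance) (hsolX t ht) (hcores t ht)
      rw [Sylow.coe_subtype] at hn'
      have hgN := (Subgroup.normal_subgroupOf_iff_le_normalizer hle).1 hn'
        (show π g ∈ centralizer ({t} : Set _) from hg)
      refine mem_normalizer_of_conj_le fun s hs => ?_
      obtain ⟨s', hs', he⟩ := (Subgroup.mem_normalizer_iff.1 hgN (π s)).1 ⟨s, hs, rfl⟩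
      rw [← map_inv, ← map_mul, ← map_mul] at he
      have hc : s'⁻¹ * (g * s * g⁻¹) ∈ center G := by
        rw [← hπ1, map_mul, map_inv, he, inv_mul_cancel]
      have := mul_mem hs' (mem_of_mem_center hO S hc)
      rwa [mul_inv_cancel_left] at this
    obtain ⟨c, hc, hcZ⟩ := SetLike.not_le_iff_exists.1 hZ0
    have hcc : ∀ c, c ∈ Z → c ∉ center G →
        centralizer ({c} : Set G) ≤ normalizer ((S : Subgroup G) : Set G) := by
      intro c hc hcZ
      obtain ⟨hSC, -, h⟩ := cent_central hF ih hU hc hcZ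
      have hOc := hOcent c hcZ (by rw [hU.sq_one hc]; exact one_mem _)
      have h' := h.comap (QuotientGroup.mk' (Cfsg.oddCore ↥(centralizer ({c} : Set G))))
      rw [comap_map_eq, QuotientGroup.ker_mk', hOc, sup_bot_eq] at h'
      exact (Subgroup.normal_subgroupOf_iff_le_normalizer hSC).1 h'
    by_cases hw2 : w * w = 1
    · have hwZ : w ∈ Z := hU.mem_zS_of_sq hw hw2
      exact normalizes_sylow (C := centralizer ({w} : Set G))
        (fun s hs => mem_centralizer_singleton_iff.2 ((mem_zS.1 hwZ).2 s hs)) (hcc w hwZ hwc)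
        fun a ha => conj_mem_cent ((hKmem w g).1 hg) ha
    -- an element of order four
    set C := centralizer ({w} : Set G) with hC
    set T := (S : Subgroup G) ⊓ C with hT
    obtain ⟨R, hR⟩ := exists_sylow_cent hU hq0 hw hw2
    have hRab : IsMulCommutative (R : Subgroup C) := by
      have hab : IsMulCommutative T := hU.inf_cent_abelian hw hw2
      exact ⟨⟨fun a b => Subtype.ext (Subtype.ext (Thompson.elemAb_comm hab
        ((SetLike.ext_iff.1 hR _).1 a.2) ((SetLike.ext_iff.1 hR _).1 b.2)))⟩⟩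
    have hRn := normal_of_solvable_abelian R hRab (hcentU S w hw hwc hww) (hOcent w hwc hww)
    have hgT : ∀ a ∈ T, g * a * g⁻¹ ∈ T := by
      intro a ha
      have hga := conj_mem_cent ((hKmem w g).1 hg) ha.2
      obtain ⟨k, hk⟩ := IsPGroup.iff_orderOf.1 S.isPGroup' ⟨a, ha.1⟩
      rw [Subgroup.orderOf_mk] at hk
      have h1 : (⟨_, hga⟩ : C) ∈ (R : Subgroup C) := by
        refine mem_sylow_of_normalizes R ?_ (k := k) ?_
        · rw [Subgroup.normalizer_eq_top_iff.2 hRn]; exact mem_top _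
        · rw [← Subgroup.orderOf_coe]
          show orderOf (g * a * g⁻¹) = _
          rw [TwoFusionB.orderOf_conj_eq, hk]
      exact (SetLike.ext_iff.1 hR _).1 h1
    have hgZ : ∀ z ∈ Z, g * z * g⁻¹ ∈ Z := fun z hz => by
      refine hU.mem_zS_of_sq (hgT z (U3Syl.zS_le_inf hw hz)).1 ?_
      rw [show g * z * g⁻¹ * (g * z * g⁻¹) = g * (z * z) * g⁻¹ by group, hU.sq_one hz, mul_one,
        mul_inv_cancel]
    refine Sylow.smul_eq_iff_mem_normalizer.1 (sylow_unique_of_le_normalizer S (g • S) ?_)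
    rw [Sylow.coe_subgroup_smul]
    rintro _ ⟨r, hr, rfl⟩
    refine hcc c hc hcZ (mem_centralizer_singleton_iff.2 ?_)
    obtain ⟨z, hz, hzc⟩ : ∃ z ∈ Z, g * z * g⁻¹ = c := by
      have hgN : g ∈ normalizer (Z : Set G) := mem_normalizer_of_conj_le hgZ
      exact ⟨g⁻¹ * c * g, by simpa using (Subgroup.mem_normalizer_iff.1 (inv_mem hgN) c).1 hc,
        by group⟩
    show g * r * g⁻¹ * c = c * (g * r * g⁻¹)
    rw [← hzc, show g * r * g⁻¹ * (g * z * g⁻¹) = g * (r * z) * g⁻¹ by group,
      (mem_zS.1 hz).2 r hr]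
    group
  -- a conjugation fixing `S` fixes its centre
  have hZinv : ∀ g : G, (∀ s ∈ (S : Subgroup G), g * s * g⁻¹ ∈ (S : Subgroup G)) →
      ∀ z ∈ Z, g * z * g⁻¹ ∈ Z := fun g hg z hz => by
    refine hU.mem_zS_of_sq (hg z (zS_le hz)) ?_
    rw [show g * z * g⁻¹ * (g * z * g⁻¹) = g * (z * z) * g⁻¹ by group, hU.sq_one hz, mul_one,
      mul_inv_cancel]
  by_cases hZ : center G = ⊥
  swap
  · exfalso
    set N := normalizer ((S : Subgroup G) : Set G)
    have hScomap : (SX : Subgroup (G ⧸ center G)).comap π = (S : Subgroup G) := by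
      rw [hSXc, comap_map_eq, sup_eq_left]
      intro z hz
      exact mem_of_mem_center hO S (hπ1.1 hz)
    have hne : (SX : Subgroup (G ⧸ center G)) ≠ ⊥ := by
      intro e
      have h : (S : Subgroup G) ≤ center G := fun s hs => by
        rw [← hπ1]; exact Subgroup.mem_bot.1 (e ▸ (show π s ∈ (SX : Subgroup (G ⧸ center G)) from
          ⟨s, hs, rfl⟩))
      exact hx₀2 (hU.sq_one (hcenS x₀ (h hx₀)))
    have hSXn : ¬ (SX : Subgroup (G ⧸ center G)).Normal := fun h => hSn (hScomap ▸ h.comap π)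
    have hSE := stronglyEmbedded_normalizer SX hne (fun t ht ht2 y hy => by
      obtain ⟨w, hw, rfl⟩ := ht
      obtain ⟨g, rfl⟩ := hπs y
      have hwc : w ∉ center G := fun h => by rw [hπ1.2 h, orderOf_one] at ht2; omega
      have hww : w * w ∈ center G := by rw [← hπ1, map_mul]; exact mul_self_of_orderOf ht2
      exact le_normalizer_map π ⟨g, hKN w hw hwc hww hy, rfl⟩) hSXn
    obtain ⟨R, hR, -, hd, -, -⟩ := CISylow69.data_of_stronglyEmbedded hsp hSE hOX
    rw [sylow_unique_of_le_normalizer SX R hR] at hd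
    -- conjugate the images of two involutions
    have hconj : ∀ a ∈ (S : Subgroup G), ∀ b ∈ (S : Subgroup G), a ∉ center G → b ∉ center G →
        a * a ∈ center G → b * b ∈ center G →
        ∃ g : G, (∀ s ∈ (S : Subgroup G), g * s * g⁻¹ ∈ (S : Subgroup G)) ∧
          ∃ z ∈ center G, g * a * g⁻¹ = b * z := by
      intro a ha b hb hac hbc haa hbb
      obtain ⟨y, hy, hya⟩ := hd.transitive (π a) ⟨a, ha, rfl⟩ (π b) ⟨b, hb, rfl⟩
        (orderOf_eq_two (fun h => hac (hπ1.1 h)) (by rw [← map_mul, hπ1]; exact haa))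
        (orderOf_eq_two (fun h => hbc (hπ1.1 h)) (by rw [← map_mul, hπ1]; exact hbb))
      obtain ⟨g, rfl⟩ := hπs y
      refine ⟨g, fun s hs => ?_, b⁻¹ * (g * a * g⁻¹), ?_, by group⟩
      · rw [← hScomap, mem_comap, map_mul, map_mul, map_inv]
        exact hy _ ⟨s, hs, rfl⟩
      · rw [← hπ1, map_mul, map_mul, map_mul, map_inv, map_inv, hya, inv_mul_cancel]
    have hnotc : ∀ a ∈ (S : Subgroup G), a * a ≠ 1 → a ∉ center G :=
      fun a _ h hc => h (hU.sq_one (hcenS a hc))
    by_cases hZ0 : Z ≤ center G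
    · -- all squares of elements of order four would be equal
      have hall : ∀ z ∈ Z, z = 1 ∨ z = x₀ * x₀ := by
        intro z hz
        by_cases hz1 : z = 1
        · exact Or.inl hz1
        right
        obtain ⟨a, ha, rfl⟩ := hU.exists_sqrt hx₀ hx₀2 hz
        obtain ⟨g, hg, w, hw, hgw⟩ := hconj x₀ hx₀ a ha.1 (hnotc _ hx₀ hx₀2) (hnotc _ ha.1 hz1)
          (hZ0 (hU.sq_mem_zS hx₀)) (hZ0 (hU.sq_mem_zS ha.1))
        have hfix : g * (x₀ * x₀) * g⁻¹ = x₀ * x₀ := by
          rw [Subgroup.mem_center_iff.1 (hZ0 (hU.sq_mem_zS hx₀)) g, mul_inv_cancel_right]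
        calc a * a = a * a * (w * w) := by rw [hU.sq_one (hcenS w hw), mul_one]
          _ = a * (a * w) * w := by group
          _ = a * (w * a) * w := by rw [Subgroup.mem_center_iff.1 hw a]
          _ = (a * w) * (a * w) := by group
          _ = g * (x₀ * x₀) * g⁻¹ := by rw [← hgw]; group
          _ = x₀ * x₀ := hfix
      have h1 : Nat.card Z ≤ 2 := by
        haveI := Fintype.ofFinite Z
        rw [Nat.card_eq_fintype_card]
        refine le_trans (Finset.card_le_card (t := ({1, ⟨x₀ * x₀, hU.sq_mem_zS hx₀⟩} : Finset Z))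
          fun z _ => ?_) Finset.card_le_two
        rcases hall z z.2 with h | h
        · simp [show z = 1 from Subtype.ext h]
        · simp [show z = ⟨x₀ * x₀, hU.sq_mem_zS hx₀⟩ from Subtype.ext h]
      omega
    obtain ⟨c, hc, hcZ⟩ := SetLike.not_le_iff_exists.1 hZ0
    obtain ⟨z, hz, hz1⟩ := (Subgroup.bot_or_exists_ne_one (center G)).resolve_left hZ
    obtain ⟨a, ha, haa⟩ := hU.exists_sqrt hx₀ hx₀2 (hcenS z hz)
    have ha2 : a * a ≠ 1 := haa ▸ hz1
    obtain ⟨g, hg, w, hw, hgw⟩ := hconj c (zS_le hc) a ha.1 hcZ (hnotc _ ha.1 ha2)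
      (by rw [hU.sq_one hc]; exact one_mem _) (haa ▸ hz)
    have h1 := mul_mem (hgw ▸ hZinv g hg c hc) (inv_mem (hcenS w hw))
    rw [mul_inv_cancel_right] at h1
    exact ha2 (hU.sq_one h1)
  -- the normaliser of `S` is strongly embedded in `G`
  right
  have hne : (S : Subgroup G) ≠ ⊥ := fun e => hx₀2 (by
    have h : x₀ ∈ (⊥ : Subgroup G) := e ▸ hx₀
    rw [Subgroup.mem_bot.1 h, mul_one])
  have hSE := stronglyEmbedded_normalizer S hne (fun t ht ht2 g hg => by
    refine hKN t ht (fun h => ?_) (by rw [mul_self_of_orderOf ht2]; exact one_mem _)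
      (hCK t hg)
    rw [hZ, Subgroup.mem_bot] at h
    rw [h, orderOf_one] at ht2
    omega) hSn
  obtain ⟨R, hR, -, -, -, hgen⟩ := CISylow69.data_of_stronglyEmbedded hsp hSE hO
  rw [sylow_unique_of_le_normalizer S R hR] at hgen
  set E := Cfsg.pElementClosure 2 (⊤ : Subgroup G) with hE
  have hSE' : (S : Subgroup G) ≤ E := fun x hx => by
    obtain ⟨k, hk⟩ := IsPGroup.iff_orderOf.1 S.isPGroup' ⟨x, hx⟩
    exact Subgroup.subset_closure ⟨mem_top _, k, (Subgroup.orderOf_mk x hx).symm.trans hk⟩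
  have hEn : E.Normal := ⟨fun x hx g => by
    induction hx using Subgroup.closure_induction with
    | mem y hy =>
      obtain ⟨-, k, hk⟩ := hy
      exact Subgroup.subset_closure ⟨mem_top _, k, by rw [TwoFusionB.orderOf_conj_eq, hk]⟩
    | one => simp
    | mul a b _ _ h1 h2 =>
      rw [show g * (a * b) * g⁻¹ = g * a * g⁻¹ * (g * b * g⁻¹) by group]; exact mul_mem h1 h2
    | inv a _ h => rw [show g * a⁻¹ * g⁻¹ = (g * a * g⁻¹)⁻¹ by group]; exact inv_mem h⟩
  have hEo : Odd E.index := by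
    rw [← Nat.not_even_iff_odd, even_iff_two_dvd]
    exact fun h => S.not_dvd_index (h.trans (Subgroup.index_dvd_of_le hSE'))
  rcases hgen with ⟨hnc, -⟩ | ⟨-, F', _, _, m, -, -, hcard, hqof, -⟩ |
      ⟨-, F', _, _, m, hm, hF', ⟨e⟩⟩
  · exfalso
    refine hnc ⟨x₀, hx₀, ?_⟩
    obtain ⟨z, hz, hz1⟩ : ∃ z ∈ Z, z ≠ 1 := (Subgroup.bot_or_exists_ne_one Z).resolve_left fun e => by
      rw [e, Subgroup.card_bot] at hZc; omega
    obtain ⟨y, hy⟩ := hU.comm_surj ⟨x₀, hx₀⟩
      (fun h => hx₀2 (hU.sq_one ((mk_mem_center hx₀).1 h))) ⟨z, zS_le hz⟩ ((mk_mem_center _).2 hz)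
    refine ⟨y, y.2, fun e1 => hz1 ?_⟩
    have h1 : x₀ * (y : G) * x₀⁻¹ * (y : G)⁻¹ = z := congrArg Subtype.val hy
    rw [← h1, e1, mul_inv_cancel_right, mul_inv_cancel]
  · exfalso
    have h1 : Suz27.qOf (S : Subgroup G) = q := by
      rw [← hZc]
      refine Nat.card_congr (Equiv.subtypeEquivRight fun x => ?_)
      exact ⟨fun h => hU.mem_zS_of_sq h.1 h.2, fun h => ⟨zS_le h, hU.sq_one h⟩⟩
    rw [hqof] at h1
    rw [hU.card_eq, h1] at hcard
    have := Nat.pow_right_injective (show 2 ≤ q by omega) hcard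
    omega
  · have hU' : U3Syl (S.subtype hSE' : Subgroup E) q := by
      rw [Sylow.coe_subtype]
      exact hU.of_equiv (subgroupOfEquivOfLe hSE').symm
    let P' : Sylow 2 (Cfsg.PSU 3 F' (2 ^ m)) :=
      (S.subtype hSE').mapSurjective (f := e.toMonoidHom) e.surjective
    have hP' : Nat.card (P' : Subgroup (Cfsg.PSU 3 F' (2 ^ m))) = q ^ 3 := by
      show Nat.card ↥((S.subtype hSE' : Subgroup E).map e.toMonoidHom) = _
      rw [card_map_of_injective e.injective, hU'.card_eq]
    rw [(u3Syl_psu (by omega) hF' P').card_eq] at hP'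
    obtain rfl : m = n := Nat.pow_right_injective le_rfl (Nat.pow_left_injective (by norm_num) hP')
    exact ⟨E, hEn, hEo, ⟨e.trans (UnitaryOrthogonal.psuCongr
      (FiniteField.ringEquivOfCardEq (hF'.trans hF.symm)))⟩⟩

/-- The classification, as an induction. -/
theorem goal (hsp : BenderSplit.{u}) (hn : 3 ≤ n) (hF : Fintype.card F = (2 ^ n) ^ 2) :
    ∀ (k : ℕ) (G : Type u) [Group G] [Finite G] (S : Sylow 2 G), Nat.card G = k →
      U3Syl (S : Subgroup G) (2 ^ n) → Goal G S F (2 ^ n) := by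
  intro k
  induction k using Nat.strong_induction_on with
  | _ k ih =>
    intro G _ _ S hk hU
    haveI : Fact (Nat.Prime 2) := ⟨Nat.prime_two⟩
    set O := Cfsg.oddCore G with hO
    let π := QuotientGroup.mk' O
    have hsurj : Function.Surjective π := QuotientGroup.mk'_surjective O
    have hbij : Function.Bijective (π.subgroupMap (S : Subgroup G)) := by
      refine ⟨(injective_iff_map_eq_one _).2 fun x hx => Subtype.ext ?_,
        MonoidHom.subgroupMap_surjective _ _⟩
      have h1 : (x : G) ∈ O := (QuotientGroup.eq_one_iff _).1 (congrArg Subtype.val hx)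
      have h2 := Thompson.inf_eq_bot_of_isPGroup_of_coprime S.isPGroup'
        (Nat.coprime_two_right.2 (BenderCons37.oddCore_card_odd (G := G)))
      exact Subgroup.mem_bot.1 (h2 ▸ Subgroup.mem_inf.2 ⟨x.2, h1⟩)
    have hU' : U3Syl (S.mapSurjective (f := π) hsurj : Subgroup (G ⧸ O)) (2 ^ n) :=
      hU.of_equiv (MulEquiv.ofBijective _ hbij)
    have hle : Nat.card (G ⧸ O) ≤ Nat.card G :=
      Nat.card_le_card_of_surjective π hsurj
    have hB : Below (G ⧸ O) F (2 ^ n) := fun H _ _ T hH hT =>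
      ih (Nat.card H) (by omega) H T rfl hT
    rcases core_case hsp hn hF hB BenderCons37.oddCore_quotient _ hU' with h | ⟨N, hN, hNo, hNi⟩
    · refine Or.inl ⟨?_, h⟩
      haveI : Group.IsSolvable O := PF14.feitThompson _ BenderCons37.oddCore_card_odd
      haveI : Group.IsSolvable (G ⧸ O) := isSolvable_of_normal_sylow _ h
      exact isSolvable_of_ext O
    · exact Or.inr ⟨N, hN, hNo, hNi⟩

/-- The statement of S3177 from Bender's splitting theorem. -/
theorem s3177_of (hsp : BenderSplit.{u}) (hn : 3 ≤ n) (hF : Fintype.card F = 4 ^ n)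
    (S : Sylow 2 G) (P : Sylow 2 (Cfsg.PSU 3 F (2 ^ n)))
    (hS : Nonempty (↥(S : Subgroup G) ≃* ↥(P : Subgroup (Cfsg.PSU 3 F (2 ^ n))))) :
    (Group.IsSolvable G ∧ Cfsg.PLengthLE 2 1 G) ∨
      ∃ N : Subgroup (G ⧸ Cfsg.oddCore G), N.Normal ∧ Odd N.index ∧
        Nonempty (↥N ≃* Cfsg.PSU 3 F (2 ^ n)) := by
  haveI : Fact (Nat.Prime 2) := ⟨Nat.prime_two⟩
  have hF' : Fintype.card F = (2 ^ n) ^ 2 := by rw [hF, ← pow_mul, mul_comm, pow_mul]; norm_num
  obtain ⟨e⟩ := hS
  rcases goal hsp hn hF' (Nat.card G) G S rfl ((u3Syl_psu (by omega) hF' P).of_equiv e.symm) with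
    ⟨h1, h2⟩ | h
  · refine Or.inl ⟨h1, BGSigma.plengthLE_one_iff.2 fun h => S.not_dvd_index (h.trans ?_)⟩
    refine Subgroup.index_dvd_of_le fun x hx => ?_
    show QuotientGroup.mk' (Cfsg.pPrimeCore 2 G) x ∈ Cfsg.pCore 2 (G ⧸ Cfsg.pPrimeCore 2 G)
    exact Thompson.le_pCore h2 (S.isPGroup'.map _) ⟨x, hx, rfl⟩
  · exact Or.inr h

end Cfsg.Agent.U3Sylow80
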