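import Cfsg.Agent.CISylow69.TIQuot
import Cfsg.Agent.BC85.Balance.Main
import Cfsg.Agent.S0949
import Cfsg.Agent.S1237
import Cfsg.Agent.T51.EFacBasic
import Cfsg.Agent.PF14.Compose
import Cfsg.Agent.Lib.Transfer.Abelian
import Cfsg.Agent.Lib.Fitting.Minimal

/-!
Groups with an abelian Sylow 2-subgroup in which every involution is a square and every involution
has a solvable centraliser are solvable.
-/

set_option autoImplicit false
set_option linter.style.haveILetI false

namespace Cfsg.Agent.U3Sylow80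

open Subgroup BenderCons37

universe u

theorem mul_self_klein : ∀ v : Multiplicative (ZMod (2 ^ 1) × ZMod (2 ^ 1)), v * v = 1 := by
  decide

section general

variable {Y : Type*} [Group Y]

theorem mul_self_of_orderOf {t : Y} (ht : orderOf t = 2) : t * t = 1 := by
  rw [← pow_two, ← ht, pow_orderOf_eq_one]

theorem sylow_unique_of_le_normalizer [Finite Y] (S R : Sylow 2 Y)
    (h : (R : Subgroup Y) ≤ normalizer ((S : Subgroup Y) : Set Y)) : R = S := by
  haveI : Fact (Nat.Prime 2) := ⟨Nat.prime_two⟩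
  obtain ⟨W, hW⟩ := (R.isPGroup'.to_sup_of_normal_right' S.isPGroup' h).exists_le_sylow
  exact (CISylow69.sylow_eq_of_le (le_sup_left.trans hW) : R = W).trans
    (CISylow69.sylow_eq_of_le (le_sup_right.trans hW) : S = W).symm

/-- A 2-element normalising a Sylow 2-subgroup lies in it. -/
theorem mem_sylow_of_normalizes [Finite Y] (S : Sylow 2 Y) {t : Y}
    (ht : t ∈ normalizer ((S : Subgroup Y) : Set Y)) {k : ℕ} (hk : orderOf t = 2 ^ k) :
    t ∈ (S : Subgroup Y) := by
  haveI : Fact (Nat.Prime 2) := ⟨Nat.prime_two⟩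
  have h : IsPGroup 2 ↥(zpowers t) := IsPGroup.of_card (n := k) (by rw [Nat.card_zpowers, hk])
  obtain ⟨W, hW⟩ := (h.to_sup_of_normal_right' S.isPGroup' (zpowers_le.2 ht)).exists_le_sylow
  exact (CISylow69.sylow_eq_of_le (le_sup_right.trans hW) : S = W) ▸
    hW (mem_sup_left (mem_zpowers t))

/-- When the normaliser of a Sylow 2-subgroup contains the centralisers of its involutions, it is
everything or strongly embedded. -/
theorem stronglyEmbedded_normalizer [Finite Y] (S : Sylow 2 Y) (hne : (S : Subgroup Y) ≠ ⊥)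
    (hc : ∀ t ∈ (S : Subgroup Y), orderOf t = 2 →
      centralizer ({t} : Set Y) ≤ normalizer ((S : Subgroup Y) : Set Y))
    (hn : ¬ (S : Subgroup Y).Normal) :
    Cfsg.IsStronglyEmbedded (normalizer ((S : Subgroup Y) : Set Y)) := by
  haveI : Fact (Nat.Prime 2) := ⟨Nat.prime_two⟩
  obtain ⟨x, hxS, hx2⟩ := CISylow69.exists_inv_of_ne_bot S.isPGroup' hne
  obtain ⟨z, hzS, hz2, hz⟩ : ∃ z ∈ (S : Subgroup Y), orderOf z = 2 ∧
      ∀ s ∈ (S : Subgroup Y), s * z = z * s := by
    haveI : Nontrivial (S : Subgroup Y) := (nontrivial_iff_ne_bot _).2 hne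
    haveI := S.isPGroup'.center_nontrivial
    obtain ⟨z, hz⟩ := exists_prime_orderOf_dvd_card' (G := center (S : Subgroup Y)) 2 (by
      obtain ⟨m, hm, hm'⟩ := (S.isPGroup'.to_subgroup (center (S : Subgroup Y))).nontrivial_iff_card.1
        inferInstance
      rw [hm']; exact dvd_pow_self 2 hm.ne')
    rw [← Subgroup.orderOf_coe, ← Subgroup.orderOf_coe] at hz
    exact ⟨_, SetLike.coe_mem _, hz, fun s hs =>
      congrArg Subtype.val (Subgroup.mem_center_iff.1 z.2 ⟨s, hs⟩)⟩
  rw [Involution.stronglyEmbedded_iff]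
  refine ⟨fun h => hn (normalizer_eq_top_iff.1 h),
    Involution.even_card_of_involution (Subgroup.le_normalizer hxS) hx2,
    fun c s hs hs2 hcs => ?_⟩
  have hsS : s ∈ (S : Subgroup Y) := mem_sylow_of_normalizes S hs (k := 1) (by rw [hs2, pow_one])
  have hs'2 : orderOf (c * s * c⁻¹) = 2 := by rw [TwoFusionB.orderOf_conj_eq, hs2]
  have hs'S : c * s * c⁻¹ ∈ (S : Subgroup Y) :=
    mem_sylow_of_normalizes S hcs (k := 1) (by rw [hs'2, pow_one])
  have hz'2 : orderOf (c * z * c⁻¹) = 2 := by rw [TwoFusionB.orderOf_conj_eq, hz2]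
  have hz'S : c * z * c⁻¹ ∈ (S : Subgroup Y) := by
    refine mem_sylow_of_normalizes S (hc _ hs'S hs'2 ?_) (k := 1) (by rw [hz'2, pow_one])
    rw [mem_centralizer_singleton_iff]
    calc c * z * c⁻¹ * (c * s * c⁻¹) = c * (z * s) * c⁻¹ := by group
      _ = c * (s * z) * c⁻¹ := by rw [hz s hsS]
      _ = c * s * c⁻¹ * (c * z * c⁻¹) := by group
  have hle : ((c • S : Sylow 2 Y) : Subgroup Y) ≤ normalizer ((S : Subgroup Y) : Set Y) := by
    rw [Sylow.coe_subgroup_smul]
    rintro _ ⟨r, hr, rfl⟩
    apply hc _ hz'S hz'2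
    rw [mem_centralizer_singleton_iff]
    show c * r * c⁻¹ * (c * z * c⁻¹) = c * z * c⁻¹ * (c * r * c⁻¹)
    calc c * r * c⁻¹ * (c * z * c⁻¹) = c * (r * z) * c⁻¹ := by group
      _ = c * (z * r) * c⁻¹ := by rw [hz r hr]
      _ = c * z * c⁻¹ * (c * r * c⁻¹) := by group
  exact Sylow.smul_eq_iff_mem_normalizer.1 (sylow_unique_of_le_normalizer S _ hle)

/-- Centralisers of involutions in a quotient by a normal subgroup of odd order. -/
theorem centralizer_mk_le {N : Subgroup Y} [N.Normal] [Finite Y] (hN : Odd (Nat.card N)) {t : Y}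
    (ht : t * t = 1) :
    centralizer ({(t : Y ⧸ N)} : Set (Y ⧸ N)) ≤
      (centralizer ({t} : Set Y)).map (QuotientGroup.mk' N) := by
  intro g hg
  obtain ⟨g, rfl⟩ := QuotientGroup.mk'_surjective N g
  rw [mem_centralizer_singleton_iff, QuotientGroup.mk'_apply, ← QuotientGroup.mk_mul,
    ← QuotientGroup.mk_mul, QuotientGroup.eq] at hg
  set t' := g * t * g⁻¹ with ht'
  have ht't : t' * t' = 1 := by
    rw [ht', show g * t * g⁻¹ * (g * t * g⁻¹) = g * (t * t) * g⁻¹ by group, ht, mul_one,
      mul_inv_cancel]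
  set w := t * t' with hw
  have hwN : w ∈ N := by
    have h1 : t' * t ∈ N := by
      have := (inferInstance : N.Normal).conj_mem _ ((N.inv_mem hg)) (t * g)
      have e : t * g * ((g * t)⁻¹ * (t * g))⁻¹ * (t * g)⁻¹ = g * t * g⁻¹ * t⁻¹ := by group
      rw [e, inv_eq_of_mul_eq_one_right ht] at this
      exact this
    have h2 := (inferInstance : N.Normal).conj_mem _ h1 t
    rwa [inv_eq_of_mul_eq_one_right ht, show t * (t' * t) * t = t * t' * (t * t) by group, ht,
      mul_one] at h2
  obtain ⟨k, hk⟩ := hN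
  have hwk : w ^ (2 * k + 1) = 1 := by
    have := congrArg Subtype.val (pow_card_eq_one' (x := (⟨w, hwN⟩ : N)))
    rwa [hk] at this
  set d := w ^ (k + 1) with hd
  have hdd : d * d = w := by
    rw [hd, ← pow_add, show k + 1 + (k + 1) = (2 * k + 1) + 1 by ring, pow_succ, hwk, one_mul]
  have htw : t * w * t⁻¹ = w⁻¹ := by
    rw [hw, inv_eq_of_mul_eq_one_right ht, mul_inv_rev, inv_eq_of_mul_eq_one_right ht,
      inv_eq_of_mul_eq_one_right ht't, ← mul_assoc, ht, one_mul]
  have htd : t * d = d⁻¹ * t := by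
    have h1 : t * d * t⁻¹ = d⁻¹ := by rw [hd, ← conj_pow, htw, inv_pow]
    rw [← h1, inv_mul_cancel_right]
  have hconj : d⁻¹ * t * d = t' := by
    calc d⁻¹ * t * d = t * (d * d) := by rw [← htd]; group
      _ = t * t * t' := by rw [hdd, hw]; group
      _ = t' := by rw [ht, one_mul]
  refine ⟨d * g, ?_, ?_⟩
  · show d * g ∈ centralizer ({t} : Set Y)
    rw [mem_centralizer_singleton_iff]
    calc d * g * t = d * t' * g := by rw [ht']; group
      _ = t * (d * g) := by rw [← hconj]; group
  · rw [map_mul, show QuotientGroup.mk' N d = 1 from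
      (QuotientGroup.eq_one_iff d).2 (N.pow_mem hwN _), one_mul]

/-- In a solvable group with trivial odd core an abelian Sylow 2-subgroup is normal. -/
theorem normal_of_solvable_abelian [Finite Y] (T : Sylow 2 Y)
    (hab : IsMulCommutative (T : Subgroup Y)) (hsol : Group.IsSolvable Y)
    (hO : Cfsg.oddCore Y = ⊥) : (T : Subgroup Y).Normal := by
  haveI : Fact (Nat.Prime 2) := ⟨Nat.prime_two⟩
  haveI := hsol
  have hF : Cfsg.fittingSubgroup Y = Cfsg.pCore 2 Y :=
    Components.fitting_eq_pCore_of_pPrimeCore_eq_bot hO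
  have h1 : Cfsg.pCore 2 Y ≤ (T : Subgroup Y) := by
    obtain ⟨W, hW⟩ := (Thompson.isPGroup_pCore (p := 2) (G := Y)).exists_le_sylow
    obtain ⟨g, hg⟩ := MulAction.exists_smul_eq Y W T
    intro x hx
    rw [← hg, Sylow.coe_subgroup_smul]
    refine ⟨g⁻¹ * x * g, hW (by
      simpa using (inferInstance : (Cfsg.pCore 2 Y).Normal).conj_mem x hx g⁻¹), ?_⟩
    simp [mul_assoc]
  have h2 : (T : Subgroup Y) ≤ Cfsg.pCore 2 Y := by
    intro x hx
    rw [← hF]
    apply Fitting.centralizer_fitting_le
    rw [hF]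
    exact mem_centralizer_iff.2 fun y hy => Thompson.elemAb_comm hab (h1 hy) hx
  rw [le_antisymm h2 h1]
  infer_instance

theorem isSolvable_of_ext (N : Subgroup Y) [N.Normal] [Group.IsSolvable N]
    [Group.IsSolvable (Y ⧸ N)] : Group.IsSolvable Y :=
  Group.isSolvable_of_ker_le_range N.subtype (QuotientGroup.mk' N)
    (by rw [QuotientGroup.ker_mk', Subgroup.range_subtype])

/-- A group with a normal Sylow 2-subgroup is solvable. -/
theorem isSolvable_of_normal_sylow [Finite Y] (T : Sylow 2 Y) (hn : (T : Subgroup Y).Normal) :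
    Group.IsSolvable Y := by
  haveI : Fact (Nat.Prime 2) := ⟨Nat.prime_two⟩
  haveI := hn
  haveI : Group.IsNilpotent (T : Subgroup Y) := T.isPGroup'.isNilpotent
  haveI : Group.IsSolvable (T : Subgroup Y) := inferInstance
  haveI : Group.IsSolvable (Y ⧸ (T : Subgroup Y)) := PF14.feitThompson _ (by
    rw [← Subgroup.index_eq_card, ← Nat.not_even_iff_odd, even_iff_two_dvd]
    exact T.not_dvd_index)
  exact isSolvable_of_ext (T : Subgroup Y)

open scoped IsMulCommutative in
/-- An element of an abelian Sylow subgroup in the commutator subgroup and central in the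
normaliser is trivial. -/
theorem eq_one_of_central_normalizer [Finite Y] (T : Sylow 2 Y)
    [hab : IsMulCommutative (T : Subgroup Y)] {z : Y} (hz : z ∈ (T : Subgroup Y))
    (hzc : z ∈ commutator Y)
    (hzN : ∀ n ∈ normalizer ((T : Subgroup Y) : Set Y), n * z = z * n) : z = 1 := by
  haveI : Fact (Nat.Prime 2) := ⟨Nat.prime_two⟩
  have key : MonoidHom.transfer (MonoidHom.id (T : Subgroup Y)) z =
      (⟨z, hz⟩ : (T : Subgroup Y)) ^ (T : Subgroup Y).index := by
    rw [MonoidHom.transfer_eq_pow (MonoidHom.id (T : Subgroup Y)) z fun k g₀ hk => ?_]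
    · exact Subtype.ext (by simp)
    · obtain ⟨n, hn, he⟩ :=
        T.conj_eq_normalizer_conj_of_mem (z ^ k) g₀ ((T : Subgroup Y).pow_mem hz k) hk
      rw [he, mul_assoc, ← ((show Commute n z from hzN n hn).pow_right k).eq, ← mul_assoc,
        inv_mul_cancel, one_mul]
  rw [show MonoidHom.transfer (MonoidHom.id (T : Subgroup Y)) z = 1 from
    Abelianization.commutator_subset_ker _ hzc] at key
  have hHall : Nat.Coprime (Nat.card (T : Subgroup Y)) (T : Subgroup Y).index := by
    obtain ⟨a, ha⟩ := IsPGroup.iff_card.1 T.isPGroup'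
    rw [ha]
    exact ((Nat.Prime.coprime_iff_not_dvd Nat.prime_two).2 T.not_dvd_index).pow_left a
  have h1 : (⟨z, hz⟩ : (T : Subgroup Y)) = 1 := (powCoprime hHall).injective (by
    rw [powCoprime_apply, powCoprime_apply, one_pow]; exact key.symm)
  exact congrArg Subtype.val h1

/-- `T = (T ∩ Y') (C_T (N (T)))` for an abelian Sylow subgroup `T`. -/
theorem exists_mul_central [Finite Y] (T : Sylow 2 Y) [hab : IsMulCommutative (T : Subgroup Y)]
    {y : Y} (hy : y ∈ (T : Subgroup Y)) :
    ∃ f ∈ (T : Subgroup Y), f ∈ commutator Y ∧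
      ∃ z ∈ (T : Subgroup Y), (∀ n ∈ normalizer ((T : Subgroup Y) : Set Y), n * z = z * n) ∧
        f * z = y := by
  haveI : Fact (Nat.Prime 2) := ⟨Nat.prime_two⟩
  set N := normalizer ((T : Subgroup Y) : Set Y) with hN
  set A := (T : Subgroup Y).subgroupOf N with hA
  haveI : A.Normal := Subgroup.normal_in_normalizer
  haveI : IsMulCommutative A := inferInstance
  have hHall : Nat.Coprime (Nat.card A) A.index := by
    obtain ⟨a, ha⟩ := IsPGroup.iff_card.1 T.isPGroup'
    rw [Nat.card_congr (subgroupOfEquivOfLe Subgroup.le_normalizer).toEquiv, ha]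
    exact ((Nat.Prime.coprime_iff_not_dvd Nat.prime_two).2
      (T.subtype Subgroup.le_normalizer).not_dvd_index).pow_left a
  haveI : (center N ⊓ A).Normal := Subgroup.normal_inf_normal _ _
  have hmem : (⟨y, Subgroup.le_normalizer hy⟩ : N) ∈ A.focalSubgroup ⊔ (center N ⊓ A) := by
    rw [Transfer.focalSubgroup_sup_center_eq hHall]; exact hy
  obtain ⟨f, hf, z, hz, hfz⟩ := Subgroup.mem_sup_of_normal_right.1 hmem
  refine ⟨(f : Y), A.focalSubgroup_le hf, ?_, (z : Y), hz.2,
    fun n hn => congrArg Subtype.val (Subgroup.mem_center_iff.1 hz.1 ⟨n, hn⟩),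
    congrArg Subtype.val hfz⟩
  have hle : A.focalSubgroup ≤ commutator N := by
    rw [focalSubgroup_def, closure_le]
    rintro g ⟨-, x, -, v, rfl⟩
    exact commutator_mem_commutator (mem_top x) (mem_top v)
  have h1 : (f : Y) ∈ (commutator N).map N.subtype := ⟨f, hle hf, rfl⟩
  rw [Subgroup.map_subtype_commutator] at h1
  exact commutator_mono le_top le_top h1

/-- Roots inside the commutator subgroup. -/
theorem exists_sqrt_commutator [Finite Y] (T : Sylow 2 Y) [hab : IsMulCommutative (T : Subgroup Y)]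
    {c y : Y} (hc : c ∈ commutator Y) (hy : y ∈ (T : Subgroup Y)) (hyc : y * y = c) :
    ∃ f ∈ (T : Subgroup Y), f ∈ commutator Y ∧ f * f = c := by
  obtain ⟨f, hf, hfc, z, hz, hzN, hfz⟩ := exists_mul_central T hy
  have e : z * z = (f * f)⁻¹ * c := by
    rw [← hyc, ← hfz, show f * z * (f * z) = f * (z * f) * z by group,
      Thompson.elemAb_comm hab hz hf]
    group
  have hzz : z * z = 1 := eq_one_of_central_normalizer T (mul_mem hz hz)
    (e ▸ mul_mem (inv_mem (mul_mem hfc hfc)) hc)
    (fun n hn => ((show Commute n z from hzN n hn).mul_right (hzN n hn)).eq)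
  refine ⟨f, hf, hfc, ?_⟩
  rw [hzz, eq_comm, inv_mul_eq_one] at e
  exact e

/-- The elements of square one of an abelian subgroup. -/
theorem exists_omega_of_abelian {T : Subgroup Y} (hab : IsMulCommutative T) :
    ∃ W : Subgroup T, ∀ x : T, x ∈ W ↔ x * x = 1 := by
  refine ⟨{ carrier := {x | x * x = 1}, one_mem' := mul_one _, mul_mem' := ?_, inv_mem' := ?_ },
    fun x => Iff.rfl⟩
  · intro a b ha hb
    show a * b * (a * b) = 1
    rw [show a * b * (a * b) = a * (b * a) * b by group, hab.is_comm.comm b a,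
      show a * (a * b) * b = a * a * (b * b) by group, show a * a = 1 from ha,
      show b * b = 1 from hb, one_mul]
  · intro a ha
    show a⁻¹ * a⁻¹ = 1
    rw [← mul_inv_rev, show a * a = 1 from ha, inv_one]

end general

/-- The main lemma on abelian Sylow 2-subgroups, for trivial odd core. -/
theorem solvable_of_abelian_sylow_aux (hsp : BenderSplit.{u}) {Y : Type u} [Group Y] [Finite Y]
    (hO : Cfsg.oddCore Y = ⊥) (T : Sylow 2 Y) (hab : IsMulCommutative (T : Subgroup Y))
    (hsq : ∀ t ∈ (T : Subgroup Y), orderOf t = 2 → ∃ y ∈ (T : Subgroup Y), y * y = t)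
    (hcent : ∀ t : Y, orderOf t = 2 → Group.IsSolvable (centralizer ({t} : Set Y))) :
    Group.IsSolvable Y := by
  classical
  haveI : Fact (Nat.Prime 2) := ⟨Nat.prime_two⟩
  haveI := hab
  obtain ⟨W, hW⟩ := exists_omega_of_abelian hab
  have hW2 : ∀ a ∈ W, a ^ 2 = 1 := fun a ha => by rw [pow_two]; exact (hW a).1 ha
  by_cases h8 : 4 < Nat.card W
  · -- two-rank at least three
    have hA3 : ¬ Cfsg.PRankLE 2 2 ↥(⊤ : Subgroup (T : Subgroup Y)) := by
      intro h
      have := h (W.map Subgroup.topEquiv.symm.toMonoidHom) inferInstance (by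
        rintro _ ⟨a, ha, rfl⟩
        rw [← map_pow, hW2 a ha, map_one])
      rw [card_map_of_injective Subgroup.topEquiv.symm.injective] at this
      omega
    have hcore : ∀ t : Y, orderOf t = 2 → Cfsg.centralizerPPrimeCore 2 t = ⊥ := fun t ht =>
      BC85.Balance.cores_trivial_scn (fun G _ _ H hH => BenderCons37.s1221_of hsp hH)
        (fun j hj => BC85.Balance.isPConstrained_of_solvable (hcent j hj)) hO T ⊤ inferInstance
        inferInstance hA3 ht
    have hcN : ∀ t ∈ (T : Subgroup Y), orderOf t = 2 →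
        centralizer ({t} : Set Y) ≤ normalizer ((T : Subgroup Y) : Set Y) := by
      intro t ht ht2 g hg
      set C := centralizer ({t} : Set Y) with hC
      have hTC : (T : Subgroup Y) ≤ C := fun x hx =>
        mem_centralizer_singleton_iff.2 (Thompson.elemAb_comm hab hx ht)
      have hOC : Cfsg.oddCore C = ⊥ :=
        (Subgroup.map_eq_bot_iff_of_injective _ C.subtype_injective).1 (hcore t ht2)
      have hn := normal_of_solvable_abelian (T.subtype hTC)
        (by rw [Sylow.coe_subtype]; infer_instance) (hcent t ht2) hOC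
      rw [Sylow.coe_subtype] at hn
      exact (Subgroup.normal_subgroupOf_iff_le_normalizer hTC).1 hn hg
    by_cases hn : (T : Subgroup Y).Normal
    · exact isSolvable_of_normal_sylow T hn
    exfalso
    have hne : (T : Subgroup Y) ≠ ⊥ := fun e => hn (by rw [e]; infer_instance)
    obtain ⟨R, hR, -, hd, -, -⟩ :=
      CISylow69.data_of_stronglyEmbedded hsp (stronglyEmbedded_normalizer T hne hcN hn) hO
    rw [sylow_unique_of_le_normalizer T R hR] at hd
    rcases hd.comm_of_sq with h | ⟨a, ha, b, hb, hne'⟩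
    · obtain ⟨x, hx, hx2⟩ := CISylow69.exists_inv_of_ne_bot T.isPGroup' hne
      obtain ⟨y, hy, rfl⟩ := hsq x hx hx2
      rw [h y hy, orderOf_one] at hx2
      omega
    · exact hne' (Thompson.elemAb_comm hab ha hb)
  -- two-rank at most two
  by_cases hfix : ∀ g ∈ normalizer ((T : Subgroup Y) : Set Y), Odd (orderOf g) →
      ∀ d ∈ (T : Subgroup Y), d ^ 2 = 1 → g * d = d * g
  · have hnc : normalizer ((T : Subgroup Y) : Set Y) ≤
        centralizer ((T : Subgroup Y) : Set Y) := by
      intro g hg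
      obtain ⟨k, m, hm, hgm⟩ := Nat.exists_eq_pow_mul_and_not_dvd (orderOf_pos g).ne' 2
        (by norm_num)
      have hmo : Odd m := Nat.not_even_iff_odd.1 fun h => hm (even_iff_two_dvd.1 h)
      obtain ⟨a, b, hab'⟩ := Nat.isCoprime_iff_coprime.2
        (Nat.Coprime.pow_left k ((Nat.Prime.coprime_iff_not_dvd Nat.prime_two).2 hm))
      have h1 : g ^ ((2 : ℕ) ^ k) ∈ centralizer ((T : Subgroup Y) : Set Y) := by
        refine mem_centralizer_iff.2 fun d hd => ?_
        refine (T51.EG.centralizes_of_omega T.isPGroup' hab (pow_mem hg _) ?_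
          (hfix _ (pow_mem hg _) ?_) d hd).symm <;>
        · refine hmo.of_dvd_nat (orderOf_dvd_of_pow_eq_one ?_)
          rw [← pow_mul, ← hgm, pow_orderOf_eq_one]
      have h2 : g ^ m ∈ centralizer ((T : Subgroup Y) : Set Y) := by
        have hgT : g ^ m ∈ (T : Subgroup Y) := by
          obtain ⟨j, -, hj⟩ := (Nat.dvd_prime_pow Nat.prime_two).1
            (orderOf_dvd_of_pow_eq_one (x := g ^ m) (n := 2 ^ k)
              (by rw [← pow_mul, mul_comm, ← hgm, pow_orderOf_eq_one]))
          exact mem_sylow_of_normalizes T (pow_mem hg _) hj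
        exact T.le_centralizer hgT
      have e : g = (g ^ ((2 : ℕ) ^ k)) ^ a * (g ^ m) ^ b := by
        rw [← zpow_natCast, ← zpow_natCast, ← zpow_mul, ← zpow_mul, ← zpow_add, mul_comm _ a,
          mul_comm _ b, hab', zpow_one]
      rw [e]
      exact mul_mem (zpow_mem h1 a) (zpow_mem h2 b)
    have hc := MonoidHom.ker_transferSylow_isComplement' T hnc
    set K := (MonoidHom.transferSylow T hnc).ker
    have hK : Odd (Nat.card K) := by
      rw [← hc.index_eq_card, ← Nat.not_even_iff_odd, even_iff_two_dvd]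
      exact T.not_dvd_index
    have hK1 : K = ⊥ := by
      rw [eq_bot_iff, ← hO]
      exact Thompson.le_pPrimeCore inferInstance (Nat.coprime_two_right.2 hK)
    have hT : (T : Subgroup Y) = ⊤ := Subgroup.isComplement'_bot_left.1 (hK1 ▸ hc)
    exact isSolvable_of_normal_sylow T (by rw [hT]; infer_instance)
  push Not at hfix
  obtain ⟨g, hg, hgo, d₀, hd₀, hd₀2, hne⟩ := hfix
  -- `g` moves an involution, hence all three
  have hbij : ∀ x : (T : Subgroup Y), g * x * g⁻¹ ∈ (T : Subgroup Y) := fun x =>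
    (Subgroup.mem_normalizer_iff.1 hg x).1 x.2
  let ψ : MulAut (T : Subgroup Y) :=
    { toFun := fun x => ⟨g * x * g⁻¹, hbij x⟩
      invFun := fun x => ⟨g⁻¹ * x * g, by
        have := (Subgroup.mem_normalizer_iff.1 (inv_mem hg) x).1 x.2
        simpa using this⟩
      left_inv := fun x => Subtype.ext (by simp [mul_assoc])
      right_inv := fun x => Subtype.ext (by simp [mul_assoc])
      map_mul' := fun x y => Subtype.ext (by simp [mul_assoc]) }
  have hψv : ∀ x, (ψ x : Y) = g * x * g⁻¹ := fun x => rfl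
  set a₀ : (T : Subgroup Y) := ⟨d₀, hd₀⟩
  have ha₀ : a₀ * a₀ = 1 := Subtype.ext (by rw [← pow_two] at *; exact hd₀2)
  have hψa : ψ a₀ ≠ a₀ := fun e => hne (mul_inv_eq_iff_eq_mul.1 (congrArg Subtype.val e :))
  have hTI : TwoFusionB.ThreeInvol (T : Subgroup Y) := by
    refine ⟨T.isPGroup', fun x _ => Subgroup.mem_center_iff.2 fun y => hab.is_comm.comm y x, ?_⟩
    rw [← Nat.card_congr (Equiv.subtypeEquivRight hW)]
    obtain ⟨j, hj⟩ := IsPGroup.iff_card.1 (T.isPGroup'.to_subgroup W)
    show Nat.card W = 4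
    have h3 : 3 ≤ Nat.card W := by
      haveI := Fintype.ofFinite W
      rw [Nat.card_eq_fintype_card]
      refine le_trans ?_ (Finset.card_le_univ
        ({⟨1, W.one_mem⟩, ⟨a₀, (hW _).2 ha₀⟩,
          ⟨ψ a₀, (hW _).2 (by rw [← map_mul, ha₀, map_one])⟩} : Finset W))
      have n1 : a₀ ≠ 1 := fun e => hψa (by rw [e, map_one])
      have n2 : ψ a₀ ≠ 1 := fun e => n1 (by simpa using e)
      rw [Finset.card_insert_of_notMem (by simp [n1.symm, n2.symm]),
        Finset.card_insert_of_notMem (by simp [Ne.symm hψa]), Finset.card_singleton]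
    rw [hj] at h3 h8 ⊢
    have : j = 2 := by
      rcases j with _ | _ | _ | j
      · norm_num at h3
      · norm_num at h3
      · rfl
      · exfalso; rw [pow_succ, pow_succ, pow_succ] at h8; have := Nat.one_le_two_pow (n := j); omega
    rw [this]; norm_num
  have hψn : ∀ x : (T : Subgroup Y), ψ (ψ x) = x → ψ x = x := by
    intro x hx
    obtain ⟨k, hk⟩ := hgo
    have hk1 : (ψ ^ (2 * k + 1)) x = x := by
      have : ∀ i : ℕ, ((ψ ^ i) x : Y) = g ^ i * x * (g ^ i)⁻¹ := by
        intro i
        induction i with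
        | zero => simp
        | succ i ih => rw [pow_succ', MulAut.mul_apply, hψv, ih, pow_succ']; group
      exact Subtype.ext (by rw [this, ← hk, pow_orderOf_eq_one]; simp)
    have h2 : ∀ i : ℕ, (ψ ^ (2 * i)) x = x := by
      intro i
      induction i with
      | zero => simp
      | succ i ih =>
        rw [show 2 * (i + 1) = 2 + 2 * i by ring, pow_add, MulAut.mul_apply, ih, pow_two,
          MulAut.mul_apply, hx]
    rwa [pow_succ', MulAut.mul_apply, h2] at hk1
  have hfix0 : ∀ x, x * x = 1 → ψ x = x → x = 1 := by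
    intro x hx hψx
    by_contra hx1
    have hb : ψ a₀ * ψ a₀ = 1 := by rw [← map_mul, ha₀, map_one]
    have hxa : x ≠ a₀ := fun e => hψa (e ▸ hψx)
    have ha1 : a₀ ≠ 1 := fun e => hψa (by rw [e, map_one])
    rcases hTI.eq_or hx ha₀ hb hx1 ha1 hxa with e | e | e | e
    · exact ha1 (by simpa using e)
    · exact hxa (ψ.injective (hψx.trans e.symm))
    · exact hψa e
    · exact hψa (hψn a₀ (by rw [e, map_mul, hψx, e, ← mul_assoc, hx, one_mul]))
  obtain ⟨m, hm, ⟨e⟩⟩ :=
    S1237.homocyclic hTI (fun a b => hab.is_comm.comm a b) ψ hfix0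
  have hm2 : 2 ≤ m := by
    by_contra hlt
    obtain rfl : m = 1 := by omega
    have hd2 : orderOf d₀ = 2 := orderOf_eq_two (fun h => hne (by rw [h, mul_one, one_mul]))
      (by rw [← pow_two]; exact hd₀2)
    obtain ⟨y, hy, hyy⟩ := hsq d₀ hd₀ hd2
    have h1 : (⟨y, hy⟩ : (T : Subgroup Y)) * ⟨y, hy⟩ = 1 := by
      apply e.injective
      rw [map_mul, map_one]
      exact mul_self_klein _
    rw [← hyy, show y * y = 1 from congrArg Subtype.val h1, orderOf_one] at hd2
    omega
  exact isSolvable_of_normal_sylow T (S0949.result T m hm2 e fun N hN hNo => by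
    rw [eq_bot_iff, ← hO]
    exact Thompson.le_pPrimeCore hN (Nat.coprime_two_right.2 hNo)).1

/-- The main lemma on abelian Sylow 2-subgroups. -/
theorem solvable_of_abelian_sylow (hsp : BenderSplit.{u}) {Y : Type u} [Group Y] [Finite Y]
    (T : Sylow 2 Y) (hab : IsMulCommutative (T : Subgroup Y))
    (hsq : ∀ t ∈ (T : Subgroup Y), orderOf t = 2 → ∃ y ∈ (T : Subgroup Y), y * y = t)
    (hcent : ∀ t : Y, orderOf t = 2 → Group.IsSolvable (centralizer ({t} : Set Y))) :
    Group.IsSolvable Y := by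
  haveI : Fact (Nat.Prime 2) := ⟨Nat.prime_two⟩
  set O := Cfsg.oddCore Y with hOdef
  let π := QuotientGroup.mk' O
  have hsurj : Function.Surjective π := QuotientGroup.mk'_surjective O
  have hOodd : Odd (Nat.card O) := BenderCons37.oddCore_card_odd
  haveI : Group.IsSolvable O := PF14.feitThompson _ hOodd
  have hlift : ∀ (V : Sylow 2 Y) (t : Y ⧸ O), t ∈ (V : Subgroup Y).map π → orderOf t = 2 →
      ∃ s ∈ (V : Subgroup Y), orderOf s = 2 ∧ π s = t := by
    rintro V _ ⟨s, hs, rfl⟩ ht
    refine ⟨s, hs, orderOf_eq_two (fun e => ?_) ?_, rfl⟩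
    · rw [e, map_one, orderOf_one] at ht; omega
    · refine Subgroup.mem_bot.1 ?_
      rw [← Thompson.inf_eq_bot_of_isPGroup_of_coprime V.isPGroup'
        (Nat.coprime_two_right.2 hOodd)]
      refine ⟨mul_mem hs hs, ?_⟩
      show s * s ∈ O
      rw [← QuotientGroup.eq_one_iff]
      show π (s * s) = 1
      rw [map_mul, mul_self_of_orderOf ht]
  have habq : IsMulCommutative ((T : Subgroup Y).map π) := inferInstance
  haveI : Group.IsSolvable (Y ⧸ O) := by
    refine solvable_of_abelian_sylow_aux hsp BenderCons37.oddCore_quotient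
      (T.mapSurjective (f := π) hsurj) habq ?_ ?_
    · intro t ht ht2
      obtain ⟨s, hs, hs2, rfl⟩ := hlift T t ht ht2
      obtain ⟨y, hy, rfl⟩ := hsq s hs hs2
      exact ⟨π y, ⟨y, hy, rfl⟩, (map_mul π y y).symm⟩
    · intro t ht
      obtain ⟨R, hR⟩ := (IsPGroup.of_card (n := 1) (by rw [Nat.card_zpowers, ht, pow_one]) :
        IsPGroup 2 ↥(zpowers t)).exists_le_sylow
      obtain ⟨V, hV⟩ := Sylow.mapSurjective_surjective hsurj 2 R
      have htV : t ∈ (V : Subgroup Y).map π := by
        have h1 := hR (mem_zpowers t)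
        rw [← hV] at h1
        exact h1
      obtain ⟨s, -, hs2, rfl⟩ := hlift V t htV ht
      haveI := hcent s hs2
      haveI : Group.IsSolvable ((centralizer ({s} : Set Y)).map π) :=
        Group.isSolvable_of_surjective (π.subgroupMap_surjective (centralizer ({s} : Set Y)))
      exact Group.isSolvable_of_isSolvable_injective (inclusion_injective
        (centralizer_mk_le hOodd (mul_self_of_orderOf hs2)))
  exact isSolvable_of_ext O

end Cfsg.Agent.U3Sylow80
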