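import Cfsg.Agent.U3Sylow80.Spec
import Cfsg.Agent.U3Sylow80.AbSyl
import Cfsg.Agent.FTDown.AutFixing
import Cfsg.Agent.S3183

/-!
Centralisers in a group whose Sylow 2-subgroups are those of `PSU₃(2ⁿ)`.
-/

set_option autoImplicit false
set_option linter.style.haveILetI false

namespace Cfsg.Agent.U3Sylow80

open Subgroup BenderCons37

universe u

variable {G : Type u} [Group G]

/-- The centre of `S`, in `G`. -/
def zS (S : Subgroup G) : Subgroup G := (center S).map S.subtype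

theorem mem_zS {S : Subgroup G} {x : G} :
    x ∈ zS S ↔ x ∈ S ∧ ∀ s ∈ S, s * x = x * s :=
  S3183.mem_map_center S x

theorem zS_le {S : Subgroup G} : zS S ≤ S := map_subtype_le _

theorem mk_mem_center {S : Subgroup G} {x : G} (hx : x ∈ S) :
    (⟨x, hx⟩ : S) ∈ center S ↔ x ∈ zS S :=
  ⟨fun h => ⟨_, h, rfl⟩, fun ⟨y, hy, e⟩ => by rwa [show (⟨x, hx⟩ : S) = y from Subtype.ext e.symm]⟩

theorem mem_of_mem_center [Finite G] (hO : Cfsg.oddCore G = ⊥) (S : Sylow 2 G) {z : G}
    (hz : z ∈ center G) : z ∈ (S : Subgroup G) := by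
  haveI : Fact (Nat.Prime 2) := ⟨Nat.prime_two⟩
  obtain ⟨k, hk⟩ := IsPGroup.iff_orderOf.1 (FTDown.isPGroup_center hO) ⟨z, hz⟩
  refine mem_sylow_of_normalizes S ?_ ((Subgroup.orderOf_mk z hz).symm.trans hk)
  refine Subgroup.mem_normalizer_iff.2 fun s => ?_
  rw [← Subgroup.mem_center_iff.1 hz s, mul_inv_cancel_right]

namespace U3Syl

variable {S : Subgroup G} {q : ℕ} (hU : U3Syl S q)
include hU

theorem card_zS : Nat.card (zS S) = q := by
  rw [zS, card_map_of_injective S.subtype_injective, hU.center_card]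

theorem sq_one {z : G} (hz : z ∈ zS S) : z * z = 1 := by
  obtain ⟨y, hy, rfl⟩ := hz
  exact congrArg Subtype.val (hU.cent_sq y hy)

theorem mem_zS_of_sq {x : G} (hx : x ∈ S) (h : x * x = 1) : x ∈ zS S :=
  (mk_mem_center hx).1 (hU.inv_central _ (Subtype.ext h))

theorem notMem_iff {x : G} (hx : x ∈ S) : x ∉ zS S ↔ x * x ≠ 1 :=
  ⟨fun h e => h (hU.mem_zS_of_sq hx e), fun h e => h (hU.sq_one e)⟩

theorem sq_mem_zS {x : G} (hx : x ∈ S) : x * x ∈ zS S :=
  ⟨_, hU.sq_mem ⟨x, hx⟩, rfl⟩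

theorem comm_mem_zS {x y : G} (hx : x ∈ S) (hy : y ∈ S) : x * y * x⁻¹ * y⁻¹ ∈ zS S :=
  ⟨_, hU.comm_mem ⟨x, hx⟩ ⟨y, hy⟩, rfl⟩

theorem inf_cent_abelian {x : G} (hx : x ∈ S) (hx2 : x * x ≠ 1) :
    IsMulCommutative ↥(S ⊓ centralizer ({x} : Set G)) := by
  refine ⟨⟨fun a b => Subtype.ext ?_⟩⟩
  exact congrArg (fun w : S => (w : G)) (hU.cent_abelian ⟨x, hx⟩
    (fun h => (hU.notMem_iff hx).2 hx2 ((mk_mem_center hx).1 h)) ⟨a, a.2.1⟩ ⟨b, b.2.1⟩
    (Subtype.ext (mem_centralizer_singleton_iff.1 a.2.2))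
    (Subtype.ext (mem_centralizer_singleton_iff.1 b.2.2)))

omit hU in
theorem zS_le_inf {x : G} (hx : x ∈ S) : zS S ≤ S ⊓ centralizer ({x} : Set G) := fun z hz =>
  ⟨zS_le hz, mem_centralizer_singleton_iff.2 ((mem_zS.1 hz).2 x hx).symm⟩

theorem exists_sqrt {x z : G} (hx : x ∈ S) (hx2 : x * x ≠ 1) (hz : z ∈ zS S) :
    ∃ a ∈ S ⊓ centralizer ({x} : Set G), a * a = z := by
  obtain ⟨a, ha, ha2⟩ := hU.cent_sqrt ⟨x, hx⟩
    (fun h => (hU.notMem_iff hx).2 hx2 ((mk_mem_center hx).1 h)) ⟨z, zS_le hz⟩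
    ((mk_mem_center _).2 hz)
  exact ⟨a, ⟨a.2, mem_centralizer_singleton_iff.2 (congrArg Subtype.val ha :)⟩,
    congrArg Subtype.val ha2⟩

open scoped IsMulCommutative in
theorem card_inf_cent (hq : 0 < q) {x : G} (hx : x ∈ S) (hx2 : x * x ≠ 1) :
    Nat.card ↥(S ⊓ centralizer ({x} : Set G)) = q ^ 2 := by
  have hxn : (⟨x, hx⟩ : S) ∉ center S := fun h =>
    (hU.notMem_iff hx).2 hx2 ((mk_mem_center hx).1 h)
  set x' : S := ⟨x, hx⟩ with hx'
  let f : S →* center S := MonoidHom.mk' (fun y => ⟨_, hU.comm_mem x' y⟩) fun a b => Subtype.ext (by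
    show x' * (a * b) * x'⁻¹ * (a * b)⁻¹ = (x' * a * x'⁻¹ * a⁻¹) * (x' * b * x'⁻¹ * b⁻¹)
    calc x' * (a * b) * x'⁻¹ * (a * b)⁻¹
        = x' * a * x'⁻¹ * ((x' * b * x'⁻¹ * b⁻¹) * a⁻¹) := by group
      _ = x' * a * x'⁻¹ * (a⁻¹ * (x' * b * x'⁻¹ * b⁻¹)) := by
          rw [Subgroup.mem_center_iff.1 (hU.comm_mem x' b) a⁻¹]
      _ = _ := by group)
  have hsurj : Function.Surjective f := fun z => by
    obtain ⟨y, hy⟩ := hU.comm_surj x' hxn z z.2
    exact ⟨y, Subtype.ext hy⟩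
  have hker : Nat.card f.ker = Nat.card ↥(S ⊓ centralizer ({x} : Set G)) := by
    rw [← card_map_of_injective (K := f.ker) S.subtype_injective]
    refine Nat.card_congr (MulEquiv.subgroupCongr ?_).toEquiv
    ext y
    constructor
    · rintro ⟨y, hy, rfl⟩
      refine ⟨y.2, mem_centralizer_singleton_iff.2 ?_⟩
      have h1 : x * (y : G) * x⁻¹ * (y : G)⁻¹ = 1 :=
        congrArg (fun w : center S => ((w : S) : G)) (MonoidHom.mem_ker.1 hy)
      rw [mul_inv_eq_one, mul_inv_eq_iff_eq_mul] at h1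
      exact h1.symm
    · rintro ⟨hyS, hyx⟩
      refine ⟨⟨y, hyS⟩, MonoidHom.mem_ker.2 (Subtype.ext (Subtype.ext ?_)), rfl⟩
      show x * y * x⁻¹ * y⁻¹ = 1
      rw [← mem_centralizer_singleton_iff.1 hyx]; group
  have h := f.ker.card_mul_index
  rw [index_ker, MonoidHom.range_eq_top.2 hsurj, card_top, hker, hU.center_card, hU.card_eq,
    pow_succ] at h
  exact Nat.eq_of_mul_eq_mul_right hq h

end U3Syl

variable [Finite G] {q : ℕ}

theorem u3Syl_of_sylow {S : Sylow 2 G} (hU : U3Syl (S : Subgroup G) q) (W : Sylow 2 G) :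
    U3Syl (W : Subgroup G) q := by
  haveI : Fact (Nat.Prime 2) := ⟨Nat.prime_two⟩
  exact hU.of_equiv (Sylow.equiv S W)

/-- `C_S(x)` is a Sylow 2-subgroup of `C(x)` for `x ∈ S` of order four. -/
theorem exists_sylow_cent {S : Sylow 2 G} (hU : U3Syl (S : Subgroup G) q) (hq : 0 < q) {x : G}
    (hx : x ∈ (S : Subgroup G)) (hx2 : x * x ≠ 1) :
    ∃ R : Sylow 2 ↥(centralizer ({x} : Set G)),
      (R : Subgroup ↥(centralizer ({x} : Set G))) =
        ((S : Subgroup G) ⊓ centralizer ({x} : Set G)).subgroupOf (centralizer ({x} : Set G)) := by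
  haveI : Fact (Nat.Prime 2) := ⟨Nat.prime_two⟩
  set C := centralizer ({x} : Set G) with hC
  set T := (S : Subgroup G) ⊓ C with hT
  have hp : IsPGroup 2 ↥(T.subgroupOf C) :=
    (S.isPGroup'.to_le (inf_le_left : T ≤ (S : Subgroup G))).of_equiv
      (subgroupOfEquivOfLe (inf_le_right : T ≤ C)).symm
  obtain ⟨R, hR⟩ := hp.exists_le_sylow
  obtain ⟨W, hW⟩ := (R.isPGroup'.map C.subtype).exists_le_sylow
  have hxT : (⟨x, mem_centralizer_singleton_iff.2 rfl⟩ : C) ∈ T.subgroupOf C :=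
    ⟨hx, mem_centralizer_singleton_iff.2 rfl⟩
  have hxW : x ∈ (W : Subgroup G) := hW ⟨_, hR hxT, rfl⟩
  have hle : (R : Subgroup C).map C.subtype ≤ (W : Subgroup G) ⊓ C :=
    le_inf hW (map_subtype_le _)
  have h1 := Nat.le_of_dvd Nat.card_pos (Subgroup.card_dvd_of_le hle)
  rw [(u3Syl_of_sylow hU W).card_inf_cent hq hxW hx2, card_map_of_injective C.subtype_injective,
    ← hU.card_inf_cent hq hx hx2, ← hT,
    ← Nat.card_congr (subgroupOfEquivOfLe (inf_le_right : T ≤ C)).toEquiv] at h1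
  exact ⟨R, (Subgroup.eq_of_le_of_card_ge hR h1).symm⟩

/-- The centraliser of an element of order four is solvable. -/
theorem solvable_cent_four (hsp : BenderSplit.{u}) {S : Sylow 2 G}
    (hU : U3Syl (S : Subgroup G) q) (hq : 0 < q)
    (hinv : ∀ t : G, orderOf t = 2 → t ∉ center G →
      Group.IsSolvable ↥(centralizer ({t} : Set G)))
    {x : G} (hx : x ∈ (S : Subgroup G)) (hx2 : x * x ≠ 1) :
    Group.IsSolvable ↥(centralizer ({x} : Set G)) := by
  haveI : Fact (Nat.Prime 2) := ⟨Nat.prime_two⟩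
  set C := centralizer ({x} : Set G) with hC
  obtain ⟨R, hR⟩ := exists_sylow_cent hU hq hx hx2
  -- properties of every Sylow subgroup of `C`
  have hprop : ∀ W : Sylow 2 C, IsMulCommutative (W : Subgroup C) ∧
      ∀ t ∈ (W : Subgroup C), t * t = 1 → ∃ y ∈ (W : Subgroup C), y * y = t := by
    have hab : IsMulCommutative ((S : Subgroup G) ⊓ C : Subgroup G) :=
      hU.inf_cent_abelian hx hx2
    have habR : IsMulCommutative (R : Subgroup C) := ⟨⟨fun a b => by
      have ha := (SetLike.ext_iff.1 hR _).1 a.2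
      have hb := (SetLike.ext_iff.1 hR _).1 b.2
      exact Subtype.ext (Subtype.ext (Thompson.elemAb_comm hab ha hb))⟩⟩
    have hsqR : ∀ t : (R : Subgroup C), t * t = 1 → ∃ y : (R : Subgroup C), y * y = t := by
      intro t ht
      have htm := (SetLike.ext_iff.1 hR _).1 t.2
      obtain ⟨a, ha, haa⟩ := hU.exists_sqrt hx hx2 (hU.mem_zS_of_sq htm.1
        (congrArg (fun w : (R : Subgroup C) => ((w : C) : G)) ht))
      have haR : (⟨a, ha.2⟩ : C) ∈ (R : Subgroup C) := by rw [hR]; exact ha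
      exact ⟨⟨⟨a, ha.2⟩, haR⟩, Subtype.ext (Subtype.ext haa)⟩
    intro W
    let e : (R : Subgroup C) ≃* (W : Subgroup C) := Sylow.equiv R W
    refine ⟨⟨⟨fun a b => e.symm.injective ?_⟩⟩, fun t ht ht2 => ?_⟩
    · rw [map_mul, map_mul]; exact habR.is_comm.comm _ _
    · obtain ⟨y, hy⟩ := hsqR (e.symm ⟨t, ht⟩) (by
        rw [← map_mul, map_eq_one_iff e.symm e.symm.injective]; exact Subtype.ext ht2)
      refine ⟨e y, SetLike.coe_mem _, ?_⟩
      have h := congrArg e hy
      rw [map_mul, e.apply_symm_apply] at h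
      exact congrArg Subtype.val h
  set D := commutator C with hD
  obtain ⟨U⟩ := (inferInstance : Nonempty (Sylow 2 D))
  obtain ⟨W, hW⟩ := (U.isPGroup'.map D.subtype).exists_le_sylow
  have hUW : (W : Subgroup C).subgroupOf D = (U : Subgroup D) :=
    U.is_maximal' (W.isPGroup'.comap_of_injective D.subtype D.subtype_injective)
      fun y hy => hW ⟨y, hy, rfl⟩
  haveI := (hprop W).1
  haveI hDs : Group.IsSolvable D := by
    refine solvable_of_abelian_sylow hsp U (hUW ▸ inferInstance) ?_ ?_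
    · intro t ht ht2
      have htW : (t : C) ∈ (W : Subgroup C) := hW ⟨t, ht, rfl⟩
      obtain ⟨y, hy, hyy⟩ := (hprop W).2 (t : C) htW
        (congrArg Subtype.val (mul_self_of_orderOf ht2))
      obtain ⟨f, hf, hfc, hff⟩ := exists_sqrt_commutator W (c := (t : C)) t.2 hy hyy
      refine ⟨⟨f, hfc⟩, ?_, Subtype.ext hff⟩
      rw [← hUW]; exact hf
    · intro t ht
      set t' : G := ((t : C) : G) with ht'
      have ht2 : orderOf t' = 2 := by rw [ht', Subgroup.orderOf_coe, Subgroup.orderOf_coe, ht]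
      have htc : t' ∉ center G := by
        intro hc
        obtain ⟨V, hV⟩ := (IsPGroup.of_card (n := 1) (by
          rw [Nat.card_zpowers, Subgroup.orderOf_coe, ht, pow_one]) :
          IsPGroup 2 ↥(zpowers (t : C))).exists_le_sylow
        haveI := (hprop V).1
        have h1 : (t : C) = 1 := eq_one_of_central_normalizer V (hV (mem_zpowers _)) t.2
          fun n _ => Subtype.ext (Subgroup.mem_center_iff.1 hc n)
        rw [ht', h1, OneMemClass.coe_one, orderOf_one] at ht2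
        omega
      haveI := hinv t' ht2 htc
      let f : ↥(centralizer ({t} : Set D)) →* ↥(centralizer ({t'} : Set G)) :=
        ((C.subtype.comp D.subtype).comp (centralizer ({t} : Set D)).subtype).codRestrict _
          fun g => mem_centralizer_singleton_iff.2 (congrArg (fun w : D => ((w : C) : G))
            (mem_centralizer_singleton_iff.1 g.2))
      exact Group.isSolvable_of_isSolvable_injective (f := f) fun a b hab =>
        Subtype.ext (Subtype.ext (Subtype.ext (congrArg (fun w : centralizer ({t'} : Set G) => (w : G)) hab :)))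
  haveI : Group.IsSolvable (C ⧸ D) :=
    Group.isSolvable_of_comm fun a b => (inferInstance : CommGroup (Abelianization C)).mul_comm a b
  exact isSolvable_of_ext D

omit [Finite G] in
/-- If the commutators of `u` with the members of `K` are central then `K` is solvable. -/
theorem solvable_of_cent {u : G} {K : Subgroup G}
    (hK : ∀ g ∈ K, g * u * g⁻¹ * u⁻¹ ∈ center G) (hCK : centralizer ({u} : Set G) ≤ K)
    (hC : Group.IsSolvable ↥(centralizer ({u} : Set G))) : Group.IsSolvable K := by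
  haveI := hC
  let f : K →* center G := MonoidHom.mk' (fun g => ⟨_, hK g g.2⟩) fun a b => Subtype.ext (by
    show (a * b : G) * u * (a * b : G)⁻¹ * u⁻¹ =
      ((a : G) * u * (a : G)⁻¹ * u⁻¹) * ((b : G) * u * (b : G)⁻¹ * u⁻¹)
    calc (a * b : G) * u * (a * b : G)⁻¹ * u⁻¹
        = (a : G) * (((b : G) * u * (b : G)⁻¹ * u⁻¹) * (u * (a : G)⁻¹ * u⁻¹)) := by group
      _ = (a : G) * ((u * (a : G)⁻¹ * u⁻¹) * ((b : G) * u * (b : G)⁻¹ * u⁻¹)) := by
          rw [Subgroup.mem_center_iff.1 (hK b b.2) (u * (a : G)⁻¹ * u⁻¹)]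
      _ = _ := by group)
  haveI : Group.IsSolvable (center G) := Group.isSolvable_of_comm fun a b => mul_comm' a b
  refine Group.isSolvable_of_ker_le_range (inclusion hCK) f fun g hg => ?_
  have h1 : (g : G) * u * (g : G)⁻¹ * u⁻¹ = 1 := congrArg Subtype.val (MonoidHom.mem_ker.1 hg)
  rw [mul_inv_eq_one, mul_inv_eq_iff_eq_mul] at h1
  exact ⟨⟨g, mem_centralizer_singleton_iff.2 h1⟩, rfl⟩

end Cfsg.Agent.U3Sylow80
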