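import Cfsg.Agent.TwoFusionB.SU3Ext

/-!
The internal description of a Sylow 2-subgroup of `PSU₃(2ⁿ)` used for its characterisation.
-/

set_option autoImplicit false
set_option linter.style.haveILetI false

namespace Cfsg.Agent.U3Sylow80

open Subgroup Cfsg.Agent.Unitary Cfsg.Agent.AutPSU Cfsg.Agent.TwoFusionB

/-- The properties of a Sylow 2-subgroup of `PSU₃(q)`, `q` even. -/
structure U3Syl (S : Type*) [Group S] (q : ℕ) : Prop where
  center_card : Nat.card (center S) = q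
  card_eq : Nat.card S = q ^ 3
  inv_central : ∀ x : S, x * x = 1 → x ∈ center S
  sq_mem : ∀ x : S, x * x ∈ center S
  cent_sq : ∀ z ∈ center S, z * z = 1
  comm_mem : ∀ x y : S, x * y * x⁻¹ * y⁻¹ ∈ center S
  cent_abelian : ∀ x ∉ center S, ∀ a b : S, a * x = x * a → b * x = x * b → a * b = b * a
  cent_sqrt : ∀ x ∉ center S, ∀ z ∈ center S, ∃ a : S, a * x = x * a ∧ a * a = z
  comm_surj : ∀ x ∉ center S, ∀ z ∈ center S, ∃ y : S, x * y * x⁻¹ * y⁻¹ = z

theorem U3Syl.of_equiv {S T : Type*} [Group S] [Group T] {q : ℕ} (e : S ≃* T) (h : U3Syl S q) :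
    U3Syl T q := by
  have hc : ∀ g : S, g ∈ center S ↔ e g ∈ center T := by
    intro g
    simp only [Subgroup.mem_center_iff]
    constructor
    · intro hg x
      obtain ⟨x, rfl⟩ := e.surjective x
      rw [← map_mul, hg, map_mul]
    · intro hg x
      apply e.injective
      rw [map_mul, map_mul, hg]
  have hc' : ∀ x, x ∈ center T ↔ e.symm x ∈ center S := fun x => by
    rw [hc, e.apply_symm_apply]
  constructor
  · rw [← h.center_card]
    exact (Nat.card_congr (Equiv.subtypeEquiv e.toEquiv hc)).symm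
  · rw [← Nat.card_congr e.toEquiv, h.card_eq]
  all_goals intro x
  · intro hx
    rw [hc']
    exact h.inv_central _ (by rw [← map_mul, hx, map_one])
  · rw [hc', map_mul]; exact h.sq_mem _
  · intro hx
    apply e.symm.injective
    rw [map_mul, map_one]
    exact h.cent_sq _ ((hc' x).1 hx)
  · intro y
    rw [hc', map_mul, map_mul, map_mul, map_inv, map_inv]
    exact h.comm_mem _ _
  · intro hx a b ha hb
    apply e.symm.injective
    rw [map_mul, map_mul]
    exact h.cent_abelian _ (fun hh => hx ((hc' x).2 hh)) _ _ (by rw [← map_mul, ha, map_mul])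
      (by rw [← map_mul, hb, map_mul])
  · intro hx z hz
    obtain ⟨a, ha, ha2⟩ := h.cent_sqrt _ (fun hh => hx ((hc' x).2 hh)) _ ((hc' z).1 hz)
    refine ⟨e a, e.symm.injective ?_, e.symm.injective ?_⟩
    · rw [map_mul, map_mul, e.symm_apply_apply]; exact ha
    · rw [map_mul, e.symm_apply_apply]; exact ha2
  · intro hx z hz
    obtain ⟨a, ha⟩ := h.comm_surj _ (fun hh => hx ((hc' x).2 hh)) _ ((hc' z).1 hz)
    refine ⟨e a, e.symm.injective ?_⟩
    rw [map_mul, map_mul, map_mul, map_inv, map_inv, e.symm_apply_apply]; exact ha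

/-- A square root in the fixed field. -/
theorem exists_fixed_sqrt {F : Type*} [Field F] [Fintype F] [CharP F 2] {q : ℕ} {c : F}
    (hc : c ^ q = c) : ∃ a : F, a ^ q = a ∧ a * a = c := by
  have h2 : (2 : F) = 0 := CharP.ofNat_eq_zero F 2
  obtain ⟨a, ha⟩ : ∃ a : F, a * a = c := by
    obtain ⟨a, ha⟩ := surjective_frobenius F 2 c
    exact ⟨a, by rw [← ha, frobenius_def, pow_two]⟩
  refine ⟨a, ?_, ha⟩
  have h4 : (a ^ q - a) ^ 2 = 0 := by
    have h5 : a ^ q * a ^ q = a * a := by rw [← mul_pow, ha, hc]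
    linear_combination h5 + (a * a - a ^ q * a) * h2
  exact sub_eq_zero.1 (by simpa using h4)

/-- The properties hold in the coordinates of `SU₃`. -/
theorem U3Syl.of_hModel {S : Type*} [Group S] [Finite S] {F : Type*} [Field F] [Fintype F]
    [CharP F 2] {q : ℕ} (hF : Fintype.card F = q ^ 2) {φ : S → F} {ι : F → S} {ν : F}
    (hM : HModel S F q φ ι ν) : U3Syl S q := by
  classical
  have h2 : (2 : F) = 0 := CharP.ofNat_eq_zero F 2
  have hadd : ∀ a : F, a + a = 0 := fun a => by linear_combination a * h2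
  have hcen : ∀ a, a ∈ center S ↔ φ a = 0 := fun a => hM.center_eq hF
  have hι0 : ι 0 = 1 := by
    have := hM.ι_mul 0 0 (zero_pow_q hF) (zero_pow_q hF)
    rw [add_zero] at this
    exact right_eq_mul.mp this
  have hfixN : ∀ l : F, (ν * (l * l ^ q)) ^ q = ν * (l * l ^ q) := fun l => by
    rw [mul_pow, mul_pow, pow_q_pow_q hF, hM.ν_fix, mul_comm (l ^ q)]
  have hfixT : ∀ l m : F, (ν * (l * m ^ q + l ^ q * m)) ^ q = ν * (l * m ^ q + l ^ q * m) :=
    fun l m => by
      rw [mul_pow, add_pow_q hF, mul_pow, mul_pow, pow_q_pow_q hF, pow_q_pow_q hF, hM.ν_fix]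
      ring
  have hιc : ∀ c, c ^ q = c → φ (ι c) = 0 := fun c hc => (hM.φ_zero _).2 ⟨c, hc, rfl⟩
  have hsqc : ∀ x, x * x ∈ center S := fun x => by
    rw [hM.sq]; exact hM.ι_cent _ (hfixN _)
  have hcomm1 : ∀ a b, φ a * φ b ^ q + φ a ^ q * φ b = 0 → a * b = b * a := by
    intro a b h
    have h1 := hM.comm a b
    rw [h, mul_zero, hι0, mul_inv_eq_one, mul_inv_eq_iff_eq_mul] at h1
    exact h1
  have hcomm2 : ∀ a b, a * b = b * a → φ a * φ b ^ q + φ a ^ q * φ b = 0 := by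
    intro a b h
    have h1 := hM.comm a b
    rw [show a * b * a⁻¹ * b⁻¹ = 1 by rw [h]; group, ← hι0] at h1
    exact (mul_eq_zero.1 (hM.ι_inj _ _ (zero_pow_q hF) (hfixT _ _) h1).symm).resolve_left hM.ν_ne
  -- the centre
  have hZ : Nat.card (center S) = q := by
    rw [← card_fixed hF]
    symm
    refine Nat.card_eq_of_bijective
      (fun c : {c : F // c ^ q = c} => (⟨ι c.1, hM.ι_cent c.1 c.2⟩ : center S)) ⟨?_, ?_⟩
    · exact fun c d h => Subtype.ext (hM.ι_inj _ _ c.2 d.2 (congrArg Subtype.val h))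
    · rintro ⟨z, hz⟩
      obtain ⟨c, hc, rfl⟩ := (hM.φ_zero z).1 ((hcen z).1 hz)
      exact ⟨⟨c, hc⟩, rfl⟩
  refine ⟨hZ, ?_, ?_, hsqc, ?_, ?_, ?_, ?_, ?_⟩
  · let f : S →* Multiplicative F :=
      MonoidHom.mk' (fun a => Multiplicative.ofAdd (φ a)) fun a b => by
        rw [hM.φ_mul, ofAdd_add]
    have hf : Function.Surjective f := fun l => by
      obtain ⟨a, ha⟩ := hM.φ_surj l.toAdd
      exact ⟨a, by show Multiplicative.ofAdd (φ a) = l; rw [ha, ofAdd_toAdd]⟩
    have hker : f.ker = center S := by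
      ext a
      rw [hcen, MonoidHom.mem_ker]
      exact Multiplicative.ofAdd.injective.eq_iff' ofAdd_zero
    have h := f.ker.card_mul_index
    rw [index_ker, MonoidHom.range_eq_top.2 hf, card_top, hker, hZ,
      Nat.card_congr Multiplicative.toAdd, Nat.card_eq_fintype_card, hF] at h
    rw [← h]; ring
  · intro x hx
    rw [hcen]
    rw [hM.sq, ← hι0] at hx
    rcases mul_eq_zero.1 (hM.ι_inj _ _ (hfixN _) (zero_pow_q hF) hx) with h | h
    · exact absurd h hM.ν_ne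
    · rcases mul_eq_zero.1 h with h | h
      · exact h
      · exact (pow_q_eq_zero_iff hF).1 h
  · intro z hz
    rw [hM.sq, (hcen z).1 hz, zero_mul, mul_zero, hι0]
  · intro x y
    rw [hM.comm]; exact hM.ι_cent _ (hfixT _ _)
  · intro x hx a b ha hb
    apply hcomm1
    have hx0 : φ x ≠ 0 := fun e => hx ((hcen x).2 e)
    have key : φ x * φ x ^ q * (φ a * φ b ^ q + φ a ^ q * φ b) = 0 := by
      linear_combination (φ x * φ b ^ q) * hcomm2 a x ha +
        (φ a ^ q * φ x) * hcomm2 b x hb - hadd (φ x * φ x * φ a ^ q * φ b ^ q)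
    exact (mul_eq_zero.1 key).resolve_left (mul_ne_zero hx0 (pow_ne_zero _ hx0))
  · intro x hx z hz
    have hx0 : φ x ≠ 0 := fun e => hx ((hcen x).2 e)
    obtain ⟨c, hc, rfl⟩ := (hM.φ_zero z).1 ((hcen z).1 hz)
    obtain ⟨k, hk, hkk⟩ := exists_fixed_sqrt (q := q) (c := c / (ν * (φ x * φ x ^ q)))
      (by rw [div_pow, hc, hfixN])
    obtain ⟨a, ha⟩ := hM.φ_surj (k * φ x)
    refine ⟨a, hcomm1 a x ?_, ?_⟩
    · rw [ha, mul_pow, hk]; linear_combination hadd (k * φ x * φ x ^ q)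
    · rw [hM.sq, ha, mul_pow, hk,
        show ν * (k * φ x * (k * φ x ^ q)) = (k * k) * (ν * (φ x * φ x ^ q)) by ring, hkk,
        div_mul_cancel₀ c (mul_ne_zero hM.ν_ne (mul_ne_zero hx0 (pow_ne_zero _ hx0)))]
  · intro x hx z hz
    have hx0 : φ x ≠ 0 := fun e => hx ((hcen x).2 e)
    obtain ⟨c, hc, rfl⟩ := (hM.φ_zero z).1 ((hcen z).1 hz)
    obtain ⟨t, ht⟩ := exists_trace_eq hF (t := c / ν) (by rw [div_pow, hc, hM.ν_fix])
    obtain ⟨y, hy⟩ := hM.φ_surj ((t / φ x) ^ q)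
    refine ⟨y, (hM.comm x y).trans (congrArg ι ?_)⟩
    rw [hy, pow_q_pow_q hF, div_pow, mul_div_cancel₀ _ hx0,
      mul_div_cancel₀ _ (pow_ne_zero _ hx0), ht, mul_div_cancel₀ _ hM.ν_ne]

/-- Every Sylow 2-subgroup of `PSU₃(2ⁿ)` has these properties. -/
theorem u3Syl_psu {F : Type*} [Field F] [Fintype F] {n : ℕ} (hn : 1 ≤ n)
    (hF : Fintype.card F = (2 ^ n) ^ 2) (P : Sylow 2 (Cfsg.PSU 3 F (2 ^ n))) :
    U3Syl ↥(P : Subgroup (Cfsg.PSU 3 F (2 ^ n))) (2 ^ n) := by
  classical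
  haveI : Fact (Nat.Prime 2) := ⟨Nat.prime_two⟩
  obtain ⟨P₀, φ, ι, ν, hM, hchar⟩ := exists_hModel hF hn rfl
  haveI := hchar
  let π := piU 3 F (2 ^ n)
  have hsurj : Function.Surjective π := QuotientGroup.mk'_surjective _
  have hker : Disjoint (P₀ : Subgroup (Cfsg.SU 3 F (2 ^ n))) π.ker := by
    rw [show π.ker = center (Cfsg.SU 3 F (2 ^ n)) from QuotientGroup.ker_mk' _, disjoint_iff]
    obtain ⟨a, ha⟩ := IsPGroup.iff_card.1 P₀.isPGroup'
    refine inf_eq_bot_of_coprime ?_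
    rw [ha, Unitary.card_center hF (by norm_num : 2 ≤ 3)]
    exact (Nat.Coprime.coprime_dvd_right (Nat.gcd_dvd_left 3 (2 ^ n + 1))
      (by norm_num : Nat.Coprime 2 3)).pow_left a
  let r : ↥(P₀ : Subgroup (Cfsg.SU 3 F (2 ^ n))) →*
      ↥((P₀ : Subgroup (Cfsg.SU 3 F (2 ^ n))).map π) := π.subgroupMap _
  have hbij : Function.Bijective r := by
    refine ⟨(injective_iff_map_eq_one r).2 fun x hx => Subtype.ext ?_,
      MonoidHom.subgroupMap_surjective _ _⟩
    have h1 : π (x : Cfsg.SU 3 F (2 ^ n)) = 1 := congrArg Subtype.val hx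
    exact Subgroup.disjoint_def.1 hker x.2 h1
  let P₁ : Sylow 2 (Cfsg.PSU 3 F (2 ^ n)) := P₀.mapSurjective (f := π) hsurj
  have h1 : U3Syl ↥(P₁ : Subgroup (Cfsg.PSU 3 F (2 ^ n))) (2 ^ n) :=
    (U3Syl.of_hModel hF hM).of_equiv (MulEquiv.ofBijective r hbij)
  exact h1.of_equiv (Sylow.equiv P₁ P)

end Cfsg.Agent.U3Sylow80
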